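import Mathlib
import Cfsg.Agent.CharactersDeep.Zassenhaus
import Cfsg.Agent.Lib.Coprime.FixedPointFree
import Cfsg.Agent.S0740

/-!
Structure of a point stabilizer and of the two-point stabilizer of a Zassenhaus group.
-/

set_option autoImplicit false
set_option linter.unusedSectionVars false

namespace Cfsg.Agent.CharTheory.Zassenhaus

open Cfsg.Agent.CharactersDeep
open scoped commutatorElement

universe u v

variable {G : Type u} {Ω : Type v} [Group G] [MulAction G Ω]

/-- The standing configuration: two points and the regular normal subgroup of the first stabilizer. -/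
structure Config (a b : Ω) (H : Subgroup G) [Fintype Ω] : Prop where
  zass : Cfsg.IsZassenhausGroup G Ω
  ne : a ≠ b
  le : H ≤ MulAction.stabilizer G a
  card : Nat.card H + 1 = Fintype.card Ω
  fix : ∀ u ∈ H, u ≠ 1 → ∀ c : Ω, u • c = c → c = a

/-- The two-point stabilizer. -/
abbrev two (a b : Ω) : Subgroup G := MulAction.stabilizer G a ⊓ MulAction.stabilizer G b

variable [Fintype Ω] {a b : Ω} {H : Subgroup G} (hc : Config a b H)
include hc

theorem fix_pair {g : G} (hg : g ∈ two (G := G) a b) (hg1 : g ≠ 1) {c : Ω} (h : g • c = c) :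
    c = a ∨ c = b := by
  by_contra hne
  push Not at hne
  exact hg1 (Zassenhaus.eq_one_of_fix_three hc.zass hc.ne hne.2.symm hne.1.symm hg.1 hg.2 h)

theorem eq_of_smul_eq_a {u v : G} (hu : u ∈ H) (hv : v ∈ H) (h : u • b = v • b) : u = v := by
  by_contra hne
  have h1 : (v⁻¹ * u) • b = b := by rw [mul_smul, h, inv_smul_smul]
  exact hc.ne (hc.fix _ (H.mul_mem (H.inv_mem hv) hu)
    (fun h0 => hne (inv_mul_eq_one.1 h0).symm) b h1).symm

/-- `H` is transitive on the other points. -/
theorem exists_mem_smul [Finite G] {c : Ω} (hca : c ≠ a) : ∃ u ∈ H, u • b = c := by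
  classical
  haveI := Fintype.ofFinite H
  let f : H → {d : Ω // d ≠ a} := fun u => ⟨(u : G) • b, fun h0 => hc.ne (by
    have hua : (u : G) • a = a := hc.le u.2
    exact (smul_left_cancel _ (hua.trans h0.symm)))⟩
  have hinj : Function.Injective f := fun u v huv =>
    Subtype.ext (eq_of_smul_eq_a hc u.2 v.2 (congrArg Subtype.val huv))
  have hbij := (Fintype.bijective_iff_injective_and_card f).2 ⟨hinj, by
    have := hc.card
    rw [Nat.card_eq_fintype_card] at this
    simp only [Fintype.card_subtype_compl, Fintype.card_unique]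
    omega⟩
  obtain ⟨u, hu⟩ := hbij.2 ⟨c, hca⟩
  exact ⟨u, u.2, congrArg Subtype.val hu⟩

theorem conj_mem [Finite G] {g u : G} (hg : g ∈ MulAction.stabilizer G a) (hu : u ∈ H) :
    g * u * g⁻¹ ∈ H := by
  rw [← Zassenhaus.normalizer_kernel hc.zass a H hc.le hc.card hc.fix] at hg
  exact (Subgroup.mem_normalizer_iff.1 hg u).1 hu

theorem exists_decomp [Finite G] {g : G} (hg : g ∈ MulAction.stabilizer G a) :
    ∃ u ∈ H, ∃ x ∈ two (G := G) a b, g = u * x := by
  obtain ⟨u, hu, he⟩ := exists_mem_smul hc (c := g • b) (fun h0 => hc.ne (by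
    have hga : g • a = a := hg
    exact smul_left_cancel _ (hga.trans h0.symm)))
  refine ⟨u, hu, u⁻¹ * g, ⟨?_, ?_⟩, (mul_inv_cancel_left _ _).symm⟩
  · show (u⁻¹ * g) • a = a
    have hga : g • a = a := hg
    have hua : u • a = a := hc.le hu
    rw [mul_smul, hga, inv_smul_eq_iff.2 hua.symm]
  · show (u⁻¹ * g) • b = b
    rw [mul_smul, ← he, inv_smul_smul]

theorem inf_two {u : G} (hu : u ∈ H) (hx : u ∈ two (G := G) a b) : u = 1 :=
  by_contra fun h => hc.ne (hc.fix u hu h b hx.2).symm

theorem two_fpf : ∀ x ∈ two (G := G) a b, x ≠ 1 → H ⊓ Subgroup.centralizer {x} = ⊥ := by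
  intro x hx hx1
  rw [Subgroup.eq_bot_iff_forall]
  rintro u ⟨hu, hux⟩
  replace hux := Subgroup.mem_centralizer_singleton_iff.1 hux
  by_contra hu1
  have h1 : x • (u • b) = u • b := by rw [← mul_smul, ← hux, mul_smul, show x • b = b from hx.2]
  rcases fix_pair hc hx hx1 h1 with h | h
  · have hua : u • a = a := hc.le hu
    exact hc.ne (smul_left_cancel u (hua.trans h.symm))
  · exact hc.ne (hc.fix u hu hu1 b h).symm

theorem H_ne_bot [Finite G] : H ≠ ⊥ := by
  obtain ⟨u, hu, hu1⟩ := Zassenhaus.exists_mem_ne_one hc.zass H hc.card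
  exact fun h => hu1 (by rwa [h, Subgroup.mem_bot] at hu)

/-- The projection of the point stabilizer on the two-point stabilizer. -/
theorem exists_proj [Finite G] : ∃ π : MulAction.stabilizer G a →* two (G := G) a b,
    (∀ g : MulAction.stabilizer G a, (g : G) ∈ H → π g = 1) ∧
    ∀ (g : MulAction.stabilizer G a) (hg : (g : G) ∈ two (G := G) a b), π g = ⟨g, hg⟩ := by
  choose u hu x hx he using fun g : MulAction.stabilizer G a => exists_decomp hc g.2
  have huniq : ∀ (g : MulAction.stabilizer G a) (v z : G), v ∈ H → z ∈ two (G := G) a b →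
      (g : G) = v * z → x g = z := by
    intro g v z hv hz hgz
    have h1 : v⁻¹ * u g = z * (x g)⁻¹ := by
      rw [eq_mul_inv_iff_mul_eq, mul_assoc, ← he g, hgz, inv_mul_cancel_left]
    have h2 := inf_two hc (H.mul_mem (H.inv_mem hv) (hu g))
      (h1 ▸ Subgroup.mul_mem _ hz (Subgroup.inv_mem _ (hx g)))
    rw [h1, mul_inv_eq_one] at h2
    exact h2.symm
  refine ⟨MonoidHom.mk' (fun g => ⟨x g, hx g⟩) fun g g' => Subtype.ext ?_, fun g hg =>
    Subtype.ext (huniq g g 1 hg (one_mem _) (mul_one _).symm), fun g hg =>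
    Subtype.ext (huniq g 1 g H.one_mem hg (one_mul _).symm)⟩
  refine huniq _ (u g * (x g * u g' * (x g)⁻¹)) _ (H.mul_mem (hu g) (conj_mem hc (hx g).1 (hu g')))
    (Subgroup.mul_mem _ (hx g) (hx g')) ?_
  rw [Subgroup.coe_mul, he g, he g']
  simp only [Subgroup.coe_mul]
  group

theorem card_stabilizer [Finite G] :
    Nat.card (MulAction.stabilizer G a) = Nat.card H * Nat.card (two (G := G) a b) := by
  rw [← Nat.card_prod]
  refine (Nat.card_congr (Equiv.ofBijective
    (fun p : H × two (G := G) a b =>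
      (⟨(p.1 : G) * p.2, mul_mem (hc.le p.1.2) p.2.2.1⟩ : MulAction.stabilizer G a)) ⟨?_, ?_⟩)).symm
  · rintro ⟨u, x⟩ ⟨u', x'⟩ he
    have he' : (u : G) * x = u' * x' := congrArg Subtype.val he
    have h1 : (u' : G)⁻¹ * u = x' * (x : G)⁻¹ := by
      rw [eq_mul_inv_iff_mul_eq, mul_assoc, he', inv_mul_cancel_left]
    have h2 := inf_two hc (H.mul_mem (H.inv_mem u'.2) u.2)
      (h1 ▸ Subgroup.mul_mem _ x'.2 (Subgroup.inv_mem _ x.2))
    rw [h2] at h1
    rw [inv_mul_eq_one] at h2
    rw [eq_comm, mul_inv_eq_one] at h1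
    exact Prod.ext (Subtype.ext h2.symm) (Subtype.ext h1.symm)
  · rintro ⟨g, hg⟩
    obtain ⟨u, hu, x, hx, rfl⟩ := exists_decomp hc hg
    exact ⟨(⟨u, hu⟩, ⟨x, hx⟩), rfl⟩

theorem pretransitive : MulAction.IsPretransitive G Ω := by
  refine ⟨fun c d => ?_⟩
  obtain ⟨c', hc'⟩ := Zassenhaus.exists_ne hc.zass c
  obtain ⟨d', hd'⟩ := Zassenhaus.exists_ne hc.zass d
  obtain ⟨g, hg, -⟩ := Zassenhaus.two_trans hc.zass hc'.symm hd'.symm
  exact ⟨g, hg⟩

theorem card_group [Finite G] :
    Nat.card G = Fintype.card Ω * (Nat.card H * Nat.card (two (G := G) a b)) := by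
  haveI := pretransitive hc
  rw [← card_stabilizer hc, ← Subgroup.index_mul_card (MulAction.stabilizer G a),
    MulAction.index_stabilizer_of_transitive G a, Nat.card_eq_fintype_card]

theorem exists_swap [Finite G] : ∃ s : G, orderOf s = 2 ∧ s • a = b ∧ s • b = a :=
  (Cfsg.Agent.S0740.result hc.zass hc.ne).1

theorem swap_conj_two {s x : G} (hsa : s • a = b) (hsb : s • b = a) (hx : x ∈ two (G := G) a b) :
    s⁻¹ * x * s ∈ two (G := G) a b := by
  constructor
  · show (s⁻¹ * x * s) • a = a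
    rw [mul_smul, hsa, mul_smul, show x • b = b from hx.2, inv_smul_eq_iff, hsa]
  · show (s⁻¹ * x * s) • b = b
    rw [mul_smul, hsb, mul_smul, show x • a = a from hx.1, inv_smul_eq_iff, hsb]

theorem not_commutative [Finite G] : ∃ g g' : G, g * g' ≠ g' * g := by
  by_contra hall
  push Not at hall
  obtain ⟨x, hx, hx1⟩ :=
    (Subgroup.bot_or_exists_ne_one _).resolve_left (Zassenhaus.two_point_ne_bot hc.zass hc.ne)
  obtain ⟨u, hu, hu1⟩ := Zassenhaus.exists_mem_ne_one hc.zass H hc.card
  have hm : u ∈ H ⊓ Subgroup.centralizer ({x} : Set G) :=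
    ⟨hu, Subgroup.mem_centralizer_singleton_iff.2 (hall u x)⟩
  rw [two_fpf hc x hx hx1, Subgroup.mem_bot] at hm
  exact hu1 hm

/-- Transfer: a homomorphism of the point stabilizer into an abelian group takes inverse values on
elements of the two-point stabilizer exchanged by a swap. -/
theorem hom_mul_swap [Finite G] [IsSimpleGroup G] {A : Type*} [CommGroup A]
    (f : MulAction.stabilizer G a →* A) {s : G} (hsa : s • a = b) (hsb : s • b = a)
    {x : G} (hx : x ∈ two (G := G) a b) :
    f ⟨x, hx.1⟩ * f ⟨s⁻¹ * x * s, (swap_conj_two hc hsa hsb hx).1⟩ = 1 := by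
  classical
  rcases eq_or_ne x 1 with rfl | hx1
  · have e1 : (⟨(1 : G), hx.1⟩ : MulAction.stabilizer G a) = 1 := rfl
    have e2 : (⟨s⁻¹ * 1 * s, (swap_conj_two hc hsa hsb hx).1⟩ : MulAction.stabilizer G a) = 1 :=
      Subtype.ext (by simp)
    rw [e1, e2, map_one, one_mul]
  let N := MulAction.stabilizer G a
  have htriv : ∀ g : G, MonoidHom.transfer f g = 1 := by
    intro g
    have hker : (MonoidHom.transfer f).ker = ⊤ := by
      refine ((MonoidHom.transfer f).normal_ker.eq_bot_or_eq_top).resolve_left fun h0 => ?_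
      obtain ⟨g, g', hgg⟩ := not_commutative hc
      refine hgg ((MonoidHom.ker_eq_bot_iff _).1 h0 ?_)
      rw [map_mul, map_mul, mul_comm]
    exact MonoidHom.mem_ker.1 (hker ▸ Subgroup.mem_top g)
  haveI : Fintype (Quotient (MulAction.orbitRel (Subgroup.zpowers x) (G ⧸ N))) :=
    Fintype.ofFinite _
  have hmk : ∀ g g' : G, ((g : G ⧸ N) = (g' : G ⧸ N)) ↔ g • a = g' • a := fun g g' => by
    rw [QuotientGroup.eq, MulAction.mem_stabilizer_iff, mul_smul, inv_smul_eq_iff, eq_comm]
  let qa : Quotient (MulAction.orbitRel (Subgroup.zpowers x) (G ⧸ N)) := Quotient.mk'' ((1 : G) : G ⧸ N)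
  let qb : Quotient (MulAction.orbitRel (Subgroup.zpowers x) (G ⧸ N)) := Quotient.mk'' ((s : G) : G ⧸ N)
  -- the representative of a fixed coset
  have hout : ∀ g : G, x • (g • a) = g • a →
      (Quotient.mk'' (g : G ⧸ N) : Quotient (MulAction.orbitRel (Subgroup.zpowers x) (G ⧸ N))).out =
        (g : G ⧸ N) := by
    intro g hg
    obtain ⟨⟨z, hz⟩, hzq⟩ := MulAction.orbitRel_apply.1
      (Quotient.mk_out' (s₁ := MulAction.orbitRel (Subgroup.zpowers x) (G ⧸ N)) (g : G ⧸ N))
    rw [← hzq]
    show (((z * g : G)) : G ⧸ N) = (g : G ⧸ N)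
    rw [hmk, mul_smul]
    obtain ⟨i, rfl⟩ := Subgroup.mem_zpowers_iff.1 hz
    have hmem : x ∈ MulAction.stabilizer G (g • a) := hg
    exact zpow_mem hmem i
  have hqa : qa.out = ((1 : G) : G ⧸ N) := hout 1 (by rw [one_smul]; exact hx.1)
  have hqb : qb.out = ((s : G) : G ⧸ N) := hout s (by rw [hsa]; exact hx.2)
  have hperiod : ∀ g : G, x • (g • a) = g • a →
      Function.minimalPeriod (x • ·) ((g : G) : G ⧸ N) = 1 := by
    intro g hg
    rw [Function.minimalPeriod_eq_one_iff_isFixedPt]
    show ((x * g : G) : G ⧸ N) = (g : G ⧸ N)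
    rw [hmk, mul_smul, hg]
  have hne : qa ≠ qb := fun he => by
    have h1 := congrArg Quotient.out he
    rw [hqa, hqb, hmk, one_smul, hsa] at h1
    exact hc.ne h1
  have h0 := htriv x
  rw [MonoidHom.transfer_eq_prod_quotient_orbitRel_zpowers_quot] at h0
  rw [Fintype.prod_eq_mul qa qb hne] at h0
  · refine Eq.trans ?_ h0
    have key : ∀ (q : Quotient (MulAction.orbitRel (Subgroup.zpowers x) (G ⧸ N))) (g : G)
        (hg : x • (g • a) = g • a) (hq : q.out = (g : G ⧸ N)) (hm : g⁻¹ * x * g ∈ N),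
        f ⟨g⁻¹ * x * g, hm⟩ = f ⟨q.out.out⁻¹ * x ^ Function.minimalPeriod (x • ·) q.out * q.out.out,
          QuotientGroup.out_conj_pow_minimalPeriod_mem N x q.out⟩ := by
      intro q g hg hq hm
      have hmem : g⁻¹ * q.out.out ∈ N := QuotientGroup.eq.1 (by
        rw [QuotientGroup.out_eq', hq])
      have he : (⟨q.out.out⁻¹ * x ^ Function.minimalPeriod (x • ·) q.out * q.out.out,
          QuotientGroup.out_conj_pow_minimalPeriod_mem N x q.out⟩ : N) =
          (⟨g⁻¹ * q.out.out, hmem⟩ : N)⁻¹ * ⟨g⁻¹ * x * g, hm⟩ * ⟨g⁻¹ * q.out.out, hmem⟩ := by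
        refine Subtype.ext ?_
        have hp : Function.minimalPeriod (x • ·) q.out = 1 := by rw [hq]; exact hperiod g hg
        simp only [Subgroup.coe_mul, Subgroup.coe_inv, hp, pow_one]
        group
      rw [he, map_mul, map_mul, map_inv, mul_comm (f ⟨g⁻¹ * q.out.out, hmem⟩)⁻¹, mul_assoc (f ⟨g⁻¹ * x * g, hm⟩),
        inv_mul_cancel, mul_one]
    rw [← key qa 1 (by rw [one_smul]; exact hx.1) hqa (by rw [inv_one, one_mul, mul_one]; exact hx.1),
      ← key qb s (by rw [hsa]; exact hx.2) hqb (swap_conj_two hc hsa hsb hx).1]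
    congr 2
    exact Subtype.ext (by simp)
  · rintro q ⟨hqa', hqb'⟩
    have hmem := QuotientGroup.out_conj_pow_minimalPeriod_mem N x q.out
    set k := Function.minimalPeriod (x • ·) q.out
    have hfixc : (x ^ k) • (q.out.out • a) = q.out.out • a := by
      have h1 : (q.out.out⁻¹ * x ^ k * q.out.out) • a = a := hmem
      rwa [mul_smul, mul_smul, inv_smul_eq_iff] at h1
    have hxk : x ^ k = 1 := by
      by_contra hne'
      have hq : ∀ g : G, q.out.out • a = g • a → q = Quotient.mk'' (g : G ⧸ N) := fun g hg => by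
        rw [← (hmk _ _).2 hg, QuotientGroup.out_eq']
        exact (Quotient.out_eq' q).symm
      rcases fix_pair hc (pow_mem hx k) hne' hfixc with h | h
      · exact hqa' (hq 1 (by rw [h, one_smul]))
      · exact hqb' (hq s (by rw [h, hsa]))
    rw [show (⟨q.out.out⁻¹ * x ^ k * q.out.out, hmem⟩ : N) = 1 from Subtype.ext (by simp [hxk]),
      map_one]

/-- A swapping involution inverts the two-point stabilizer. -/
theorem swap_inverts [Finite G] [IsSimpleGroup G] (hodd : Odd (Nat.card (two (G := G) a b)))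
    {s : G} (hs : orderOf s = 2) (hsa : s • a = b) (hsb : s • b = a)
    {x : G} (hx : x ∈ two (G := G) a b) : s⁻¹ * x * s = x⁻¹ := by
  classical
  let E := two (G := G) a b
  obtain ⟨π, -, hπ⟩ := exists_proj hc
  let σ : E →* E := MonoidHom.mk' (fun y => ⟨s⁻¹ * y * s, swap_conj_two hc hsa hsb y.2⟩)
    fun y z => Subtype.ext (show s⁻¹ * ((y : G) * z) * s = (s⁻¹ * y * s) * (s⁻¹ * z * s) by group)
  have key : ∀ y : E, y * σ y ∈ commutator E := by
    intro y
    have h1 := hom_mul_swap hc (Abelianization.of.comp π) hsa hsb y.2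
    rw [← map_mul, MonoidHom.comp_apply, ← MonoidHom.mem_ker, Abelianization.ker_of] at h1
    rw [map_mul, hπ _ y.2, hπ _ (swap_conj_two hc hsa hsb y.2)] at h1
    exact h1
  haveI : IsZGroup E := ⟨fun p hp P => by
    haveI := Fact.mk hp
    have hP : IsPGroup p ((P : Subgroup E).map E.subtype) := P.isPGroup'.map _
    have hEN : E ≤ Subgroup.normalizer (H : Set G) := by
      rw [Zassenhaus.normalizer_kernel hc.zass a H hc.le hc.card hc.fix]
      exact inf_le_left
    rcases Cfsg.Agent.Coprime.fpf_isCyclic_or_quaternion hP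
      ((Subgroup.map_subtype_le _).trans hEN)
      (Cfsg.Agent.Coprime.fpf_mono (two_fpf hc) (Subgroup.map_subtype_le _) le_rfl) (H_ne_bot hc)
      with h | ⟨rfl, m, ⟨e⟩⟩
    · exact isCyclic_of_injective
        ((P : Subgroup E).equivMapOfInjective E.subtype E.subtype_injective).toMonoidHom
        (MulEquiv.injective _)
    · exfalso
      haveI : NeZero (2 ^ m) := ⟨by positivity⟩
      have h1 : Nat.card ((P : Subgroup E).map E.subtype) ∣ Nat.card E :=
        Subgroup.card_dvd_of_le (Subgroup.map_subtype_le _)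
      rw [Nat.card_congr e.toEquiv, Nat.card_eq_fintype_card, QuaternionGroup.card] at h1
      exact Nat.not_even_iff_odd.2 hodd
        (even_iff_two_dvd.2 ((show 2 ∣ 4 * 2 ^ m from ⟨2 * 2 ^ m, by ring⟩).trans h1))⟩
  haveI hCyc : IsCyclic (commutator E) := IsZGroup.isCyclic_commutator E
  have hss : s * s = 1 := by rw [← sq, ← hs, pow_orderOf_eq_one]
  -- the derived subgroup is central
  have hcen : commutator E ≤ Subgroup.center E := by
    obtain ⟨g₀, hg₀⟩ := hCyc.exists_generator
    have hσD : ∀ d ∈ commutator E, σ d ∈ commutator E := fun d hd => by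
      have h1 := key d
      have h2 := (commutator E).mul_mem ((commutator E).inv_mem hd) h1
      rwa [inv_mul_cancel_left] at h2
    obtain ⟨j, hj⟩ := Subgroup.mem_zpowers_iff.1 (hg₀ ⟨σ g₀, hσD _ g₀.2⟩)
    have hj' : σ (g₀ : E) = (g₀ : E) ^ j := by
      have := congrArg Subtype.val hj
      simpa using this.symm
    have hgen : ∀ d ∈ commutator E, ∃ i : ℤ, d = (g₀ : E) ^ i := fun d hd => by
      obtain ⟨i, hi⟩ := Subgroup.mem_zpowers_iff.1 (hg₀ ⟨d, hd⟩)
      exact ⟨i, by simpa using (congrArg Subtype.val hi).symm⟩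
    have hσpow : ∀ d ∈ commutator E, σ d = d ^ j := fun d hd => by
      obtain ⟨i, rfl⟩ := hgen d hd
      rw [map_zpow, hj', ← zpow_mul, ← zpow_mul, mul_comm]
    intro d hd
    rw [Subgroup.mem_center_iff]
    intro y
    let t := y * σ y
    have ht : t ∈ commutator E := key y
    have hσy : σ y = y⁻¹ * t := by simp [t]
    have hcomm : ∀ e₁ ∈ commutator E, ∀ e₂ ∈ commutator E, e₁ * e₂ = e₂ * e₁ := fun e₁ h₁ e₂ h₂ => by
      obtain ⟨i, rfl⟩ := hgen e₁ h₁
      obtain ⟨i', rfl⟩ := hgen e₂ h₂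
      rw [← zpow_add, ← zpow_add, add_comm]
    have hconj : ∀ e₁ ∈ commutator E, y * e₁ * y⁻¹ ∈ commutator E :=
      fun e₁ h₁ => (inferInstance : (commutator E).Normal).conj_mem e₁ h₁ y
    have hA : y * σ d * y⁻¹ = y⁻¹ * σ d * y := by
      have h1 : σ (y * d * y⁻¹) = y * σ d * y⁻¹ := by
        rw [hσpow _ (hconj d hd), hσpow d hd, conj_zpow]
      rw [← h1, map_mul, map_mul, map_inv, hσy]
      calc y⁻¹ * t * σ d * (y⁻¹ * t)⁻¹ = y⁻¹ * (t * σ d * t⁻¹) * y := by group
        _ = _ := by rw [hcomm t ht _ (hσD d hd), mul_inv_cancel_right]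
    have hy2 : Commute (y * y) (σ d) := by
      show y * y * σ d = σ d * (y * y)
      calc y * y * σ d = y * (y * σ d * y⁻¹) * y := by group
        _ = y * (y⁻¹ * σ d * y) * y := by rw [hA]
        _ = _ := by group
    have hσσ : σ (σ d) = d := Subtype.ext (by
      show s⁻¹ * (s⁻¹ * (d : G) * s) * s = d
      rw [inv_eq_of_mul_eq_one_right hss]
      calc s * (s * (d : G) * s) * s = s * s * (d : G) * (s * s) := by group
        _ = d := by rw [hss]; group)
    obtain ⟨k, hk⟩ : Odd (orderOf y) := by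
      rw [Nat.odd_iff, ← Nat.two_dvd_ne_zero]
      exact fun h2 => Nat.not_even_iff_odd.2 hodd
        (even_iff_two_dvd.2 (h2.trans (orderOf_dvd_natCard y)))
    have hy : Commute y (σ d) := by
      have h3 := hy2.pow_left (k + 1)
      rwa [show (y * y) ^ (k + 1) = y by
        rw [← sq, ← pow_mul, show 2 * (k + 1) = orderOf y + 1 by omega, pow_succ,
          pow_orderOf_eq_one, one_mul]] at h3
    -- apply the statement to `σ d`
    have h4 : ∀ d' ∈ commutator E, σ d' = σ d → Commute y (σ d') := fun d' _ he => he ▸ hy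
    rw [← hσσ, hσpow _ (hσD d hd)]
    exact (hy.zpow_right j).eq
  have hEc : ∀ y z : E, y * z = z * y := by
    haveI : IsCyclic (E ⧸ Subgroup.center E) := by
      haveI : IsCyclic (E ⧸ commutator E) := IsZGroup.isCyclic_abelianization
      exact isCyclic_of_surjective
        (QuotientGroup.map (commutator E) (Subgroup.center E) (MonoidHom.id E) (by simpa using hcen))
        (fun q => by
          induction q using QuotientGroup.induction_on with
          | H g => exact ⟨QuotientGroup.mk g, rfl⟩)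
    letI := commGroupOfCyclicCenterQuotient (QuotientGroup.mk' (Subgroup.center E))
      (by rw [QuotientGroup.ker_mk'])
    intro y z
    exact mul_comm y z
  have hbot : commutator E = ⊥ := by
    rw [commutator_def, Subgroup.commutator_eq_bot_iff_le_centralizer]
    intro y _
    rw [Subgroup.mem_centralizer_iff]
    exact fun z _ => hEc z y
  have h1 := key ⟨x, hx⟩
  rw [hbot, Subgroup.mem_bot] at h1
  exact (inv_eq_of_mul_eq_one_right (congrArg Subtype.val h1)).symm

end Cfsg.Agent.CharTheory.Zassenhaus
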