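import Mathlib
import Cfsg.Agent.Lib.CharTheory.Zassenhaus.Basic

/-!
Counting the elements of a Zassenhaus group without fixed points.
-/

set_option autoImplicit false

namespace Cfsg.Agent.CharTheory.Zassenhaus

open Cfsg.Agent.CharactersDeep

universe u v

variable {G : Type u} {Ω : Type v} [Group G] [Fintype G] [MulAction G Ω] [Fintype Ω]

/-- The number of points fixed by an element. -/
noncomputable def nfix (Ω : Type v) [MulAction G Ω] [Fintype Ω] (g : G) : ℕ :=
  Nat.card {c : Ω // g • c = c}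

theorem sum_nfix (hZ : Cfsg.IsZassenhausGroup G Ω) :
    ∑ g : G, (nfix Ω g : ℤ) = Nat.card G := by
  classical
  haveI : MulAction.IsPretransitive G Ω := ⟨fun c d => by
    obtain ⟨c', hc'⟩ := Zassenhaus.exists_ne hZ c
    obtain ⟨d', hd'⟩ := Zassenhaus.exists_ne hZ d
    obtain ⟨g, hg, -⟩ := Zassenhaus.two_trans hZ hc'.symm hd'.symm
    exact ⟨g, hg⟩⟩
  have h1 : ∀ g : G, (nfix Ω g : ℤ) = ∑ c : Ω, if g • c = c then 1 else 0 := fun g => by
    rw [Finset.sum_boole, nfix, Nat.card_eq_fintype_card, Fintype.card_subtype]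
  rw [Finset.sum_congr rfl fun g _ => h1 g, Finset.sum_comm]
  have h2 : ∀ c : Ω, (∑ g : G, if g • c = c then (1 : ℤ) else 0) =
      Nat.card (MulAction.stabilizer G c) := fun c => by
    rw [Finset.sum_boole, Nat.card_eq_fintype_card, ← Fintype.card_subtype]
    exact congrArg Nat.cast (Fintype.card_congr (Equiv.refl _))
  rw [Finset.sum_congr rfl fun c _ => h2 c]
  obtain ⟨g, hg, a, b, hab, -, -⟩ := hZ.2.2.2.1
  have h3 : ∀ c : Ω, Nat.card (MulAction.stabilizer G c) = Nat.card (MulAction.stabilizer G a) :=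
    fun c => by
      have := Subgroup.index_mul_card (MulAction.stabilizer G c)
      have := Subgroup.index_mul_card (MulAction.stabilizer G a)
      rw [MulAction.index_stabilizer_of_transitive] at *
      exact Nat.eq_of_mul_eq_mul_left (Nat.card_pos_iff.2 ⟨⟨a⟩, inferInstance⟩) (by omega)
  rw [Finset.sum_congr rfl fun c _ => congrArg Nat.cast (h3 c), Finset.sum_const, Finset.card_univ,
    nsmul_eq_mul, ← Subgroup.index_mul_card (MulAction.stabilizer G a),
    MulAction.index_stabilizer_of_transitive, Nat.card_eq_fintype_card (α := Ω), Nat.cast_mul]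

theorem card_pair_stabilizer (hZ : Cfsg.IsZassenhausGroup G Ω) {a b c d : Ω} (hab : a ≠ b)
    (hcd : c ≠ d) : Nat.card {g : G // g • c = c ∧ g • d = d} = Nat.card (two (G := G) a b) := by
  obtain ⟨x, hxa, hxb⟩ := Zassenhaus.two_trans hZ hab hcd
  refine Nat.card_congr (Equiv.subtypeEquiv (MulAut.conj x⁻¹).toEquiv fun g => ?_)
  show _ ↔ (x⁻¹ * g * x⁻¹⁻¹) • a = a ∧ (x⁻¹ * g * x⁻¹⁻¹) • b = b
  simp only [inv_inv, mul_smul, hxa, hxb, inv_smul_eq_iff]

theorem sum_nfix_sub (hZ : Cfsg.IsZassenhausGroup G Ω) {a b : Ω} (hab : a ≠ b) :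
    ∑ g : G, (nfix Ω g : ℤ) * ((nfix Ω g : ℤ) - 1) =
      (Fintype.card Ω : ℤ) * ((Fintype.card Ω : ℤ) - 1) * Nat.card (two (G := G) a b) := by
  classical
  let P : Finset (Ω × Ω) := (Finset.univ : Finset Ω).offDiag
  have h1 : ∀ g : G, (nfix Ω g : ℤ) * ((nfix Ω g : ℤ) - 1) =
      ∑ p ∈ P, if g • p.1 = p.1 ∧ g • p.2 = p.2 then 1 else 0 := fun g => by
    rw [Finset.sum_boole]
    have he : P.filter (fun p => g • p.1 = p.1 ∧ g • p.2 = p.2) =
        (Finset.univ.filter fun c : Ω => g • c = c).offDiag := by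
      ext p
      simp only [P, Finset.mem_filter, Finset.mem_offDiag, Finset.mem_univ, true_and]
      tauto
    rw [he, Finset.offDiag_card, nfix, Nat.card_eq_fintype_card, Fintype.card_subtype,
      Nat.cast_sub (Nat.le_mul_self _)]
    push_cast; ring
  rw [Finset.sum_congr rfl fun g _ => h1 g, Finset.sum_comm]
  have h2 : ∀ p ∈ P, (∑ g : G, if g • p.1 = p.1 ∧ g • p.2 = p.2 then (1 : ℤ) else 0) =
      Nat.card (two (G := G) a b) := fun p hp => by
    rw [Finset.sum_boole, ← Fintype.card_subtype, ← Nat.card_eq_fintype_card,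
      card_pair_stabilizer hZ hab (Finset.mem_offDiag.1 hp).2.2]
  rw [Finset.sum_congr rfl h2, Finset.sum_const, nsmul_eq_mul, Finset.offDiag_card, Finset.card_univ,
    Nat.cast_sub (Nat.le_mul_self _)]
  push_cast; ring

theorem nfix_le_two (hZ : Cfsg.IsZassenhausGroup G Ω) {g : G} (hg : g ≠ 1) : nfix Ω g ≤ 2 := by
  classical
  rw [nfix, Nat.card_eq_fintype_card, Fintype.card_subtype]
  by_contra h
  push Not at h
  obtain ⟨a, b, c, ha, hb, hc, hab, hac, hbc⟩ := Finset.two_lt_card_iff.1 h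
  simp only [Finset.mem_filter, Finset.mem_univ, true_and] at ha hb hc
  exact hg (Zassenhaus.eq_one_of_fix_three hZ hab hbc hac ha hb hc)

/-- Twice the number of fixed-point-free elements is `|G| - (n-1)(n-2)`. -/
theorem two_mul_card_free (hZ : Cfsg.IsZassenhausGroup G Ω) {a b : Ω} (hab : a ≠ b)
    (hcard : Nat.card G = Fintype.card Ω * (Fintype.card Ω - 1) * Nat.card (two (G := G) a b)) :
    2 * (Nat.card {g : G // ∀ c : Ω, g • c ≠ c} : ℤ) =
      Nat.card G - ((Fintype.card Ω : ℤ) - 1) * ((Fintype.card Ω : ℤ) - 2) := by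
  classical
  have h3 := Zassenhaus.three_le_card hZ
  have hterm : ∀ g : G, ((nfix Ω g : ℤ) - 1) * ((nfix Ω g : ℤ) - 2) =
      (if g = 1 then ((Fintype.card Ω : ℤ) - 1) * ((Fintype.card Ω : ℤ) - 2) else 0) +
        2 * (if ∀ c : Ω, g • c ≠ c then 1 else 0) := by
    intro g
    rcases eq_or_ne g 1 with rfl | hg
    · have h0 : ¬ ∀ c : Ω, (1 : G) • c ≠ c := fun h => h a (one_smul G a)
      have h1 : nfix Ω (1 : G) = Fintype.card Ω := by
        rw [nfix, ← Nat.card_eq_fintype_card]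
        exact Nat.card_congr (Equiv.subtypeUnivEquiv fun c => one_smul G c)
      rw [if_pos rfl, if_neg h0, h1]; ring
    · rw [if_neg hg]
      split_ifs with hf
      · haveI : IsEmpty {c : Ω // g • c = c} := ⟨fun c => hf c.1 c.2⟩
        rw [nfix, Nat.card_of_isEmpty]; norm_num
      · push Not at hf
        obtain ⟨c, hc⟩ := hf
        haveI : Nonempty {c : Ω // g • c = c} := ⟨⟨c, hc⟩⟩
        have h1 : 1 ≤ nfix Ω g := Nat.card_pos
        have h2 := nfix_le_two hZ hg
        interval_cases nfix Ω g <;> norm_num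
  have hsum : ∑ g : G, ((nfix Ω g : ℤ) - 1) * ((nfix Ω g : ℤ) - 2) = Nat.card G := by
    have h4 : ∀ g : G, ((nfix Ω g : ℤ) - 1) * ((nfix Ω g : ℤ) - 2) =
        (nfix Ω g : ℤ) * ((nfix Ω g : ℤ) - 1) - 2 * (nfix Ω g : ℤ) + 2 := fun g => by ring
    rw [Finset.sum_congr rfl fun g _ => h4 g, Finset.sum_add_distrib, Finset.sum_sub_distrib,
      ← Finset.mul_sum, sum_nfix hZ, sum_nfix_sub hZ hab, Finset.sum_const, Finset.card_univ,
      ← Nat.card_eq_fintype_card (α := G), hcard, nsmul_eq_mul]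
    push_cast [Nat.cast_sub (show 1 ≤ Fintype.card Ω by omega)]
    ring
  rw [Finset.sum_congr rfl fun g _ => hterm g, Finset.sum_add_distrib, ← Finset.mul_sum,
    Finset.sum_ite_eq' Finset.univ (1 : G), if_pos (Finset.mem_univ _), Finset.sum_boole,
    ← Fintype.card_subtype, ← Nat.card_eq_fintype_card (α := {g : G // ∀ c : Ω, g • c ≠ c})] at hsum
  linarith

end Cfsg.Agent.CharTheory.Zassenhaus
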