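import Mathlib
import Cfsg.Agent.S0881
import Cfsg.Agent.Lib.CharTheory.Zassenhaus.FixedPoints
import Cfsg.Agent.Lib.CharTheory.TIFrobenius

/-!
Characters of a simple Zassenhaus group whose two-point stabilizer has odd order: the Steinberg
character, the characters induced from linear characters of a point stabilizer, and the structure
of the point stabilizer.
-/

set_option autoImplicit false
set_option linter.unusedSectionVars false

namespace Cfsg.Agent.CharTheory.Zassenhaus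

open Cfsg.Agent.CharactersDeep
open Cfsg.Agent.Characters
open scoped ComplexConjugate

universe u v

variable {G : Type u} {Ω : Type v} [Group G] [Fintype G] [MulAction G Ω] [Fintype Ω] {a b : Ω}
  {H : Subgroup G} (hc : Config a b H)
include hc

theorem card_group' :
    Nat.card G = (Nat.card H + 1) * (Nat.card H * Nat.card (two (G := G) a b)) := by
  rw [card_group hc, hc.card]

/-- The Steinberg character. -/
theorem steinberg : ∃ φ : G → ℂ, Cfsg.IsIrrCharacter G φ ∧ φ 1 = (Nat.card H : ℂ) ∧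
    ∀ u ∈ H, u ≠ 1 → φ u = 0 := by
  classical
  haveI := pretransitive hc
  set N := MulAction.stabilizer G a
  set φ : G → ℂ := fun g => Cfsg.indFun N (fun _ => 1) g - 1 with hφ
  have hfix : ∀ g : G, Cfsg.indFun N (fun _ => 1) g = (nfix Ω g : ℂ) := by
    intro g
    rw [IndBasic.indFun_one_eq_card_fixed, nfix]
    refine congrArg _ (Nat.card_congr (Equiv.subtypeEquiv
      (Equiv.ofBijective (MulAction.ofQuotientStabilizer G a)
        ⟨MulAction.injective_ofQuotientStabilizer G a, fun c => by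
          obtain ⟨x, hx⟩ := MulAction.exists_smul_eq G a c
          exact ⟨(x : G ⧸ N), hx⟩⟩) fun q => ?_))
    show g • q = q ↔ g • MulAction.ofQuotientStabilizer G a q = MulAction.ofQuotientStabilizer G a q
    rw [← MulAction.ofQuotientStabilizer_smul]
    exact ⟨fun h => by rw [h], fun h => MulAction.injective_ofQuotientStabilizer G a h⟩
  have hval : ∀ g, φ g = (((nfix Ω g : ℤ) - 1 : ℤ) : ℂ) := fun g => by
    simp only [hφ, hfix g]; push_cast; rfl
  have h1 : φ 1 = (Nat.card H : ℂ) := by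
    rw [hval]
    have h0 : nfix Ω (1 : G) = Fintype.card Ω := by
      rw [nfix, ← Nat.card_eq_fintype_card]
      exact Nat.card_congr (Equiv.subtypeUnivEquiv fun c => one_smul G c)
    rw [h0, ← hc.card]; push_cast; ring
  have hgen : Cfsg.IsGeneralizedCharacter G φ :=
    isGen_sub (isGen_of_isCharacter (isCharacter_indFun N isCharacter_one))
      (isGen_of_isCharacter isCharacter_one)
  have hsum : ∑ g : G, ((nfix Ω g : ℤ) - 1) * ((nfix Ω g : ℤ) - 1) = Nat.card G := by
    have h2 : ∀ g : G, ((nfix Ω g : ℤ) - 1) * ((nfix Ω g : ℤ) - 1) =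
        (nfix Ω g : ℤ) * ((nfix Ω g : ℤ) - 1) - (nfix Ω g : ℤ) + 1 := fun g => by ring
    rw [Finset.sum_congr rfl fun g _ => h2 g, Finset.sum_add_distrib, Finset.sum_sub_distrib,
      sum_nfix_sub hc.zass hc.ne, sum_nfix hc.zass, card_group' hc, ← hc.card, Finset.sum_const,
      Finset.card_univ, nsmul_eq_mul, mul_one, ← Nat.card_eq_fintype_card, card_group' hc]
    push_cast; ring
  have hnorm : Cfsg.classInner φ φ = 1 := by
    rw [classInner_def, inv_mul_eq_one₀ natCard_ne_zero]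
    simp only [hval, map_intCast]
    exact_mod_cast hsum.symm
  refine ⟨φ, isIrr_of_gen_norm_one hgen hnorm ?_, h1, fun u hu hu1 => ?_⟩
  · rw [h1, Complex.natCast_re]; exact_mod_cast Nat.card_pos (α := H)
  · rw [hval]
    have h0 : nfix Ω u = 1 := by
      rw [nfix, Nat.card_eq_one_iff_unique]
      exact ⟨⟨fun c d => Subtype.ext ((hc.fix u hu hu1 c.1 c.2).trans (hc.fix u hu hu1 d.1 d.2).symm)⟩,
        ⟨⟨a, hc.le hu⟩⟩⟩
    rw [h0]; norm_num

/-- Elements of the point stabilizer outside the kernel are conjugate into the two-point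
stabilizer. -/
theorem exists_conj_two {x : G} (hxa : x • a = a) (hxH : x ∉ H) :
    ∃ u ∈ H, u * x * u⁻¹ ∈ two (G := G) a b := by
  obtain ⟨c, hxc, hca⟩ : ∃ c : Ω, x • c = c ∧ c ≠ a := by
    by_contra hno
    push Not at hno
    exact hxH (Zassenhaus.mem_of_fix_only hc.zass a H hc.le hc.card hc.fix hxa hno)
  obtain ⟨u, hu, hub⟩ := exists_mem_smul hc hca
  have hua : u • a = a := hc.le hu
  refine ⟨u⁻¹, H.inv_mem hu, ?_, ?_⟩
  · show (u⁻¹ * x * u⁻¹⁻¹) • a = a
    rw [inv_inv, mul_smul, mul_smul, hua, hxa, inv_smul_eq_iff, hua]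
  · show (u⁻¹ * x * u⁻¹⁻¹) • b = b
    rw [inv_inv, mul_smul, mul_smul, hub, hxc, ← hub, inv_smul_smul]

/-- Conjugation of kernel elements happens in the point stabilizer. -/
theorem mem_stabilizer_of_conj {t g : G} (hg : g ∈ H) (hg1 : g ≠ 1) (h : t * g * t⁻¹ ∈ H) :
    t ∈ MulAction.stabilizer G a := by
  by_contra ht
  exact hg1 (Zassenhaus.kernel_TI a H hc.le hc.fix ht hg h)

theorem centralizer_le_kernel {g : G} (hg : g ∈ H) (hg1 : g ≠ 1) :
    Subgroup.centralizer ({g} : Set G) ≤ H := by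
  intro x hx
  rw [Subgroup.mem_centralizer_singleton_iff] at hx
  have hga : g • a = a := hc.le hg
  have hxa : x • a = a := hc.fix g hg hg1 _ (by rw [← mul_smul, ← hx, mul_smul, hga])
  by_contra hxH
  obtain ⟨u, hu, hz⟩ := exists_conj_two hc hxa hxH
  have hz1 : u * x * u⁻¹ ≠ 1 := fun e => hxH (by
    rw [conj_eq_one_iff.1 e]; exact H.one_mem)
  have hmem : u * g * u⁻¹ ∈ H ⊓ Subgroup.centralizer ({u * x * u⁻¹} : Set G) := by
    refine ⟨H.mul_mem (H.mul_mem hu hg) (H.inv_mem hu), Subgroup.mem_centralizer_singleton_iff.2 ?_⟩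
    calc u * g * u⁻¹ * (u * x * u⁻¹) = u * (g * x) * u⁻¹ := by group
      _ = u * (x * g) * u⁻¹ := by rw [hx]
      _ = u * x * u⁻¹ * (u * g * u⁻¹) := by group
  rw [two_fpf hc _ hz hz1, Subgroup.mem_bot] at hmem
  exact hg1 (conj_eq_one_iff.1 hmem)

variable [IsSimpleGroup G] (hodd : Odd (Nat.card (two (G := G) a b)))
include hodd

theorem two_comm {x y : G} (hx : x ∈ two (G := G) a b) (hy : y ∈ two (G := G) a b) :
    x * y = y * x := by
  obtain ⟨s, hs, hsa, hsb⟩ := exists_swap hc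
  have h1 := swap_inverts hc hodd hs hsa hsb (Subgroup.mul_mem _ hx hy)
  have h2 := swap_inverts hc hodd hs hsa hsb hx
  have h3 := swap_inverts hc hodd hs hsa hsb hy
  have h4 : (x * y)⁻¹ = x⁻¹ * y⁻¹ := by rw [← h1, ← h2, ← h3]; group
  calc x * y = ((x * y)⁻¹)⁻¹ := (inv_inv _).symm
    _ = y * x := by rw [h4, mul_inv_rev, inv_inv, inv_inv]

variable {L : Subgroup G} (hL : L = MulAction.stabilizer G a)
include hL

/-- Characters of the point stabilizer that are constant on the kernel are linear, and there are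
`e` of them. -/
theorem not_rel_irr [Fintype L] :
    (∀ ξ : L → ℂ, Cfsg.IsIrrCharacter L ξ → ¬ TIFrobenius.Rel (H.subgroupOf L) ξ →
      ξ 1 = 1 ∧ ∀ x : L, (x : G) ∈ H → ξ x = 1) ∧
    Nat.card {ξ : Cfsg.IrrCharacter L // ¬ TIFrobenius.Rel (H.subgroupOf L) (ξ : L → ℂ)} =
      Nat.card (two (G := G) a b) := by
  classical
  subst hL
  obtain ⟨π, hπH, hπ⟩ := exists_proj hc
  haveI := Fintype.ofFinite (two (G := G) a b)
  have hsurj : Function.Surjective π := fun z => ⟨⟨z, z.2.1⟩, hπ ⟨(z : G), z.2.1⟩ z.2⟩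
  have hker : ∀ x : MulAction.stabilizer G a, x ∈ π.ker → (x : G) ∈ H := by
    intro x hx
    obtain ⟨u, hu, z, hz, hxuz⟩ := exists_decomp hc x.2
    have hx' : x = (⟨u, hc.le hu⟩ : MulAction.stabilizer G a) * ⟨z, hz.1⟩ := Subtype.ext hxuz
    rw [MonoidHom.mem_ker, hx', map_mul, hπH ⟨u, hc.le hu⟩ hu, one_mul, hπ ⟨z, hz.1⟩ hz] at hx
    have hz1 : z = 1 := congrArg Subtype.val hx
    rw [hxuz, hz1, mul_one]; exact hu
  have hcomm : ∀ x y : two (G := G) a b, x * y = y * x := fun x y =>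
    Subtype.ext (two_comm hc hodd x.2 y.2)
  have hcomp : ∀ χ : two (G := G) a b → ℂ, Cfsg.IsIrrCharacter (two (G := G) a b) χ →
      ¬ TIFrobenius.Rel (H.subgroupOf (MulAction.stabilizer G a)) (χ ∘ π) := by
    rintro χ hχ ⟨k, hk, hne⟩
    exact hne (by simp [hπH k hk])
  have hdef : ∀ ξ : MulAction.stabilizer G a → ℂ, Cfsg.IsIrrCharacter _ ξ →
      ¬ TIFrobenius.Rel (H.subgroupOf (MulAction.stabilizer G a)) ξ →
      ∃ χ : two (G := G) a b → ℂ, Cfsg.IsIrrCharacter (two (G := G) a b) χ ∧ χ ∘ π = ξ := by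
    intro ξ hξ hrel
    simp only [TIFrobenius.Rel, not_exists, not_and, not_not] at hrel
    obtain ⟨χ, -, h2, h3⟩ := exists_deflate π hsurj (isCharacter_of_isIrr hξ)
      fun x hx => hrel x (hker x hx)
    exact ⟨χ, h3 hξ, h2⟩
  refine ⟨fun ξ hξ hrel => ?_, ?_⟩
  · obtain ⟨χ, hχ, rfl⟩ := hdef ξ hξ hrel
    have h1 := irr_degree_one_of_comm hcomm hχ
    exact ⟨by simp [h1], fun x hx => by simp [hπH x hx, h1]⟩
  · haveI : IsMulCommutative (two (G := G) a b) := ⟨⟨hcomm⟩⟩
    let f : Cfsg.IrrCharacter (two (G := G) a b) → {ξ : Cfsg.IrrCharacter (MulAction.stabilizer G a) //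
        ¬ TIFrobenius.Rel (H.subgroupOf (MulAction.stabilizer G a))
          (ξ : MulAction.stabilizer G a → ℂ)} := fun χ =>
      ⟨⟨(χ : two (G := G) a b → ℂ) ∘ π, isIrrCharacter_comp_surjective π hsurj χ.2⟩, hcomp _ χ.2⟩
    have hf : Function.Bijective f := by
      refine ⟨fun χ χ' e => Subtype.ext (funext fun z => ?_), fun ξ => ?_⟩
      · obtain ⟨x, rfl⟩ := hsurj z
        exact congrFun (congrArg Subtype.val (congrArg Subtype.val e)) x
      · obtain ⟨χ, hχ, h⟩ := hdef _ ξ.1.2 ξ.2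
        exact ⟨⟨χ, hχ⟩, Subtype.ext (Subtype.ext h)⟩
    rw [← Nat.card_congr (Equiv.ofBijective f hf), card_irrCharacter]
    refine (Nat.card_congr (Equiv.ofBijective ConjClasses.mk ⟨fun x y h => ?_,
      ConjClasses.mk_surjective⟩)).symm
    obtain ⟨t, ht⟩ := isConj_iff.1 (ConjClasses.mk_eq_mk_iff_isConj.1 h)
    rw [hcomm t x, mul_inv_cancel_right] at ht
    exact ht

/-- Values of induced linear characters on the two-point stabilizer. -/
theorem ind_value [Fintype L] {μ : L → ℂ} (hμ : Cfsg.IsClassFunction L μ) {z : G}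
    (hz : z ∈ two (G := G) a b) (hz1 : z ≠ 1) :
    ∃ hzL : z ∈ L, Cfsg.indFun L μ z = μ ⟨z, hzL⟩ + μ (⟨z, hzL⟩⁻¹) := by
  classical
  subst hL
  obtain ⟨s, hs, hsa, hsb⟩ := exists_swap hc
  refine ⟨hz.1, mul_left_cancel₀ (natCard_ne_zero (G := MulAction.stabilizer G a)) ?_⟩
  have hinv := swap_inverts hc hodd hs hsa hsb hz
  set M := Cfsg.extendByZero (MulAction.stabilizer G a) μ with hM
  have hterm : ∀ x : G, M (x⁻¹ * z * x) = (if x • a = a then μ ⟨z, hz.1⟩ else 0) +
      (if x • a = b then μ (⟨z, hz.1⟩⁻¹) else 0) := by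
    intro x
    by_cases hmem : x⁻¹ * z * x ∈ MulAction.stabilizer G a
    · have hfix : z • (x • a) = x • a := by
        have h : (x⁻¹ * z * x) • a = a := hmem
        rwa [mul_smul, mul_smul, inv_smul_eq_iff] at h
      rw [hM, IndBasic.extendByZero_of_mem _ μ hmem]
      rcases fix_pair hc hz hz1 hfix with hxa | hxb
      · rw [if_pos hxa, if_neg (by rw [hxa]; exact hc.ne), add_zero]
        refine Eq.trans ?_ (hμ ⟨z, hz.1⟩ (⟨x, hxa⟩ : MulAction.stabilizer G a)⁻¹)
        exact congrArg μ (Subtype.ext (by simp))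
      · rw [if_neg (by rw [hxb]; exact hc.ne.symm), if_pos hxb, zero_add]
        have hn : s⁻¹ * x ∈ MulAction.stabilizer G a := by
          show (s⁻¹ * x) • a = a
          rw [mul_smul, hxb, inv_smul_eq_iff, hsa]
        refine Eq.trans ?_ (hμ (⟨z, hz.1⟩⁻¹ : MulAction.stabilizer G a) (⟨s⁻¹ * x, hn⟩⁻¹))
        refine congrArg μ (Subtype.ext ?_)
        simp only [Subgroup.coe_mul, Subgroup.coe_inv, ← hinv]
        group
    · rw [hM, IndBasic.extendByZero_of_notMem _ μ hmem, if_neg, if_neg, add_zero]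
      · intro hxb
        refine hmem ?_
        show (x⁻¹ * z * x) • a = a
        rw [mul_smul, mul_smul, hxb, show z • b = b from hz.2, ← hxb, inv_smul_smul]
      · intro hxa
        refine hmem ?_
        show (x⁻¹ * z * x) • a = a
        rw [mul_smul, mul_smul, hxa, show z • a = a from hz.1, inv_smul_eq_iff, hxa]
  have hA : (Finset.univ.filter fun x : G => x • a = a).card =
      Nat.card (MulAction.stabilizer G a) := by
    rw [← Fintype.card_subtype, ← Nat.card_eq_fintype_card]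
    exact Nat.card_congr (Equiv.subtypeEquivRight fun x => Iff.rfl)
  have hB : (Finset.univ.filter fun x : G => x • a = b).card =
      Nat.card (MulAction.stabilizer G a) := by
    rw [← hA]
    refine Finset.card_nbij' (fun x => s⁻¹ * x) (fun x => s * x) ?_ ?_
      (fun x _ => mul_inv_cancel_left s x) (fun x _ => inv_mul_cancel_left s x)
    · intro x hx
      simp only [Finset.coe_filter, Finset.mem_univ, true_and, Set.mem_setOf_eq] at hx ⊢
      rw [mul_smul, hx, inv_smul_eq_iff, hsa]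
    · intro x hx
      simp only [Finset.coe_filter, Finset.mem_univ, true_and, Set.mem_setOf_eq] at hx ⊢
      rw [mul_smul, hx, hsa]
  rw [IndBasic.card_mul_indFun, Finset.sum_congr rfl fun x _ => hterm x, Finset.sum_add_distrib,
    ← Finset.sum_filter, ← Finset.sum_filter, Finset.sum_const, Finset.sum_const, hA, hB,
    nsmul_eq_mul, nsmul_eq_mul, mul_add]

/-- The irreducible characters induced from linear characters of the point stabilizer. -/
theorem exists_family [Fintype L] (hlt : Nat.card (two (G := G) a b) + 1 < Nat.card H) (s : ℕ)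
    (hs : Nat.card (two (G := G) a b) = 2 * s + 1) :
    ∃ M : Finset (Cfsg.IrrCharacter G), M.card = s ∧ ∀ φ ∈ M,
      (φ : G → ℂ) 1 = (Nat.card H : ℂ) + 1 ∧ (∀ u ∈ H, u ≠ 1 → (φ : G → ℂ) u = 1) ∧
      ∃ μ : L → ℂ, Cfsg.IsCharacter L μ ∧ (∀ x : L, (x : G) ∈ H → μ x = 1) ∧
        (φ : G → ℂ) = Cfsg.indFun L μ := by
  classical
  obtain ⟨hlin, hcard⟩ := not_rel_irr hc hodd hL
  subst hL
  set L := MulAction.stabilizer G a
  haveI := Fintype.ofFinite (Cfsg.IrrCharacter L)
  haveI := Fintype.ofFinite (Cfsg.IrrCharacter G)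
  let P := Finset.univ.filter fun ξ : Cfsg.IrrCharacter L =>
    ¬ TIFrobenius.Rel (H.subgroupOf L) (ξ : L → ℂ) ∧ ξ ≠ trivIrr L
  have hP : P.card = 2 * s := by
    have h1 : P = (Finset.univ.filter fun ξ : Cfsg.IrrCharacter L =>
        ¬ TIFrobenius.Rel (H.subgroupOf L) (ξ : L → ℂ)).erase (trivIrr L) := by
      ext ξ; simp [P, and_comm]
    rw [h1, Finset.card_erase_of_mem, ← Fintype.card_subtype, ← Nat.card_eq_fintype_card, hcard]
    · omega
    · simp [TIFrobenius.Rel, trivIrr_coe]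
  have hirr : ∀ ξ ∈ P, Cfsg.IsIrrCharacter G (Cfsg.indFun L (ξ : L → ℂ)) ∧
      ∀ u ∈ H, u ≠ 1 → Cfsg.indFun L (ξ : L → ℂ) u = 1 := by
    intro ξ hξ
    simp only [P, Finset.mem_filter, Finset.mem_univ, true_and] at hξ
    obtain ⟨h1, h2⟩ := hlin _ ξ.2 hξ.1
    exact S0881.result hc.zass hc.ne hodd
      (show Nat.card (two (G := G) a b) < Fintype.card Ω - 2 by
        have := hc.card; omega) H hc.le hc.card hc.fix _ ⟨irr_isCharacter ξ, h1⟩ h2
      fun e => hξ.2 (Subtype.ext e)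
  let ind : {ξ // ξ ∈ P} → Cfsg.IrrCharacter G := fun ξ => ⟨_, (hirr ξ.1 ξ.2).1⟩
  have hfib : ∀ φ ∈ P.attach.image ind, (P.attach.filter fun ξ => ind ξ = φ).card ≤ 2 := by
    intro φ hφ
    obtain ⟨⟨ξ, hξ⟩, -, rfl⟩ := Finset.mem_image.1 hφ
    have hξ' := hξ
    simp only [P, Finset.mem_filter, Finset.mem_univ, true_and] at hξ'
    obtain ⟨hξ1, hξH⟩ := hlin _ ξ.2 hξ'.1
    have hconj : ⟨_, isIrrCharacter_conj ξ.2⟩ ∈ P := by
      simp only [P, Finset.mem_filter, Finset.mem_univ, true_and]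
      refine ⟨?_, fun e => hξ'.2 (Subtype.ext (funext fun x => ?_))⟩
      · rintro ⟨k, hk, hne⟩
        exact hne (by simp [hξH k hk, hξ1])
      · have := congrArg conj (congrFun (congrArg Subtype.val e) x)
        simpa [trivIrr_coe] using this
    refine (Finset.card_le_card ?_).trans
      (Finset.card_le_two (a := (⟨ξ, hξ⟩ : {ξ // ξ ∈ P})) (b := ⟨_, hconj⟩))
    intro ν hν
    obtain ⟨ν, hνP⟩ := ν
    have he : Cfsg.indFun L (ν : L → ℂ) = Cfsg.indFun L (ξ : L → ℂ) :=
      congrArg Subtype.val (Finset.mem_filter.1 hν).2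
    simp only [P, Finset.mem_filter, Finset.mem_univ, true_and] at hνP
    obtain ⟨hν1, hνH⟩ := hlin _ ν.2 hνP.1
    have hmν : ∀ x y : L, (ν : L → ℂ) (x * y) = (ν : L → ℂ) x * (ν : L → ℂ) y :=
      char_mul_of_degree_one (irr_isCharacter ν) hν1
    have hmξ : ∀ x y : L, (ξ : L → ℂ) (x * y) = (ξ : L → ℂ) x * (ξ : L → ℂ) y :=
      char_mul_of_degree_one (irr_isCharacter ξ) hξ1
    have hext : ∀ f g : L → ℂ, (∀ x y : L, f (x * y) = f x * f y) →
        (∀ x y : L, g (x * y) = g x * g y) → (∀ x : L, (x : G) ∈ H → f x = 1) →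
        (∀ x : L, (x : G) ∈ H → g x = 1) →
        (∀ x : L, (x : G) ∈ two (G := G) a b → f x = g x) → f = g := by
      intro f g hf hg hfH hgH h
      funext x
      obtain ⟨u, hu, z, hz, hx⟩ := exists_decomp hc x.2
      have hx' : x = (⟨u, hc.le hu⟩ : L) * ⟨z, hz.1⟩ := Subtype.ext hx
      rw [hx', hf, hg, hfH _ hu, hgH _ hu, h _ hz]
    have hkey : ∀ x : L, (x : G) ∈ two (G := G) a b →
        (ν : L → ℂ) x = (ξ : L → ℂ) x ∨ (ν : L → ℂ) x * (ξ : L → ℂ) x = 1 := by
      intro x hx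
      by_cases hx1 : (x : G) = 1
      · rw [show x = 1 from Subtype.ext hx1, hν1, hξ1]; exact Or.inl rfl
      obtain ⟨_, e1⟩ := ind_value hc hodd rfl (irr_isClassFunction ν) hx hx1
      obtain ⟨_, e2⟩ := ind_value hc hodd rfl (irr_isClassFunction ξ) hx hx1
      have he' := congrFun he (x : G)
      rw [e1, e2] at he'
      have a1 : (ν : L → ℂ) x * (ν : L → ℂ) x⁻¹ = 1 := by rw [← hmν, mul_inv_cancel, hν1]
      have a2 : (ξ : L → ℂ) x * (ξ : L → ℂ) x⁻¹ = 1 := by rw [← hmξ, mul_inv_cancel, hξ1]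
      have : ((ν : L → ℂ) x - (ξ : L → ℂ) x) * ((ν : L → ℂ) x * (ξ : L → ℂ) x - 1) = 0 := by
        linear_combination ((ν : L → ℂ) x * (ξ : L → ℂ) x) * he' - (ξ : L → ℂ) x * a1 +
          (ν : L → ℂ) x * a2
      rcases mul_eq_zero.1 this with h | h
      · exact Or.inl (sub_eq_zero.1 h)
      · exact Or.inr (sub_eq_zero.1 h)
    simp only [Finset.mem_insert, Finset.mem_singleton, Subtype.mk.injEq]
    by_cases hall : ∀ x : L, (x : G) ∈ two (G := G) a b → (ν : L → ℂ) x = (ξ : L → ℂ) x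
    · exact Or.inl (Subtype.ext (hext _ _ hmν hmξ hνH hξH hall))
    push Not at hall
    obtain ⟨x₁, hx₁, hne₁⟩ := hall
    refine Or.inr (Subtype.ext (hext _ _ hmν (fun x y => by simp [hmξ, map_mul]) hνH
      (fun x hx => by simp [hξH x hx]) fun x hx => ?_))
    have hn : (ν : L → ℂ) x₁ * (ξ : L → ℂ) x₁ = 1 := (hkey x₁ hx₁).resolve_left hne₁
    have hxx : (ν : L → ℂ) x * (ξ : L → ℂ) x = 1 := by
      rcases hkey x hx with h | h
      · have h12 := hkey (x₁ * x) (Subgroup.mul_mem _ hx₁ hx)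
        rw [hmν, hmξ] at h12
        rcases h12 with h' | h'
        · refine absurd (mul_right_cancel₀ ?_ (h ▸ h' : _ = (ξ : L → ℂ) x₁ * (ξ : L → ℂ) x)) hne₁
          intro h0
          have := hmξ x x⁻¹
          rw [mul_inv_cancel, hξ1, h0, zero_mul] at this
          exact one_ne_zero this
        · calc (ν : L → ℂ) x * (ξ : L → ℂ) x =
              ((ν : L → ℂ) x₁ * (ξ : L → ℂ) x₁) * ((ν : L → ℂ) x * (ξ : L → ℂ) x) := by
                rw [hn, one_mul]
            _ = 1 := by rw [← h']; ring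
      · exact h
    show (ν : L → ℂ) x = conj ((ξ : L → ℂ) x)
    calc (ν : L → ℂ) x = (ν : L → ℂ) x * (conj ((ξ : L → ℂ) x) * (ξ : L → ℂ) x) := by
          rw [mul_comm (conj _), Basics.char_norm_eq_one (irr_isCharacter ξ) hξ1, mul_one]
      _ = conj ((ξ : L → ℂ) x) := by rw [mul_left_comm, hxx, mul_one]
  have hcardM : s ≤ (P.attach.image ind).card := by
    have := Finset.card_le_mul_card_image P.attach 2 hfib
    rw [Finset.card_attach, hP] at this
    omega
  obtain ⟨M, hM, hMc⟩ := Finset.exists_subset_card_eq hcardM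
  refine ⟨M, hMc, fun φ hφ => ?_⟩
  obtain ⟨⟨ξ, hξ⟩, -, rfl⟩ := Finset.mem_image.1 (hM hφ)
  have hξ' := hξ
  simp only [P, Finset.mem_filter, Finset.mem_univ, true_and] at hξ'
  refine ⟨?_, (hirr ξ hξ).2, ξ, irr_isCharacter ξ, (hlin _ ξ.2 hξ'.1).2, rfl⟩
  show Cfsg.indFun L (ξ : L → ℂ) 1 = _
  haveI := pretransitive hc
  rw [Characters.indFun_one, (hlin _ ξ.2 hξ'.1).1, mul_one,
    MulAction.index_stabilizer_of_transitive, Nat.card_eq_fintype_card, ← hc.card]
  push_cast; rfl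

end Cfsg.Agent.CharTheory.Zassenhaus
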