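import Mathlib
import Cfsg.Agent.Lib.CharTheory.Zassenhaus.Basic

/-!
The involutions of a simple Zassenhaus group with two-point stabilizers of odd order.
-/

set_option autoImplicit false
set_option linter.unusedSectionVars false

namespace Cfsg.Agent.CharTheory.Zassenhaus

open Cfsg.Agent.CharactersDeep

universe u v

variable {G : Type u} {Ω : Type v} [Group G] [MulAction G Ω]

theorem inv_mul_self {x : G} (hx : orderOf x = 2) : x * x = 1 := by
  rw [← sq, ← hx, pow_orderOf_eq_one]

theorem inv_eq {x : G} (hx : orderOf x = 2) : x⁻¹ = x := inv_eq_of_mul_eq_one_right (inv_mul_self hx)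

theorem smul_smul_inv {x : G} (hx : orderOf x = 2) (c : Ω) : x • x • c = c := by
  rw [← mul_smul, inv_mul_self hx, one_smul]

variable [Fintype Ω] [Finite G] {a b : Ω} {H : Subgroup G} (hc : Config a b H)
include hc

theorem two_le : 3 ≤ Fintype.card Ω := Zassenhaus.three_le_card hc.zass

theorem fix_unique (hodd : Odd (Nat.card (two (G := G) a b))) {x : G} (hx : orderOf x = 2)
    {c d : Ω} (hxc : x • c = c) (hxd : x • d = d) : c = d := by
  by_contra hne
  obtain ⟨g, hga, hgb⟩ := Zassenhaus.two_trans hc.zass hc.ne hne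
  have hmem : g⁻¹ * x * g ∈ two (G := G) a b := by
    constructor
    · show (g⁻¹ * x * g) • a = a
      rw [mul_smul, mul_smul, hga, hxc, inv_smul_eq_iff, hga]
    · show (g⁻¹ * x * g) • b = b
      rw [mul_smul, mul_smul, hgb, hxd, inv_smul_eq_iff, hgb]
  have h1 := Subgroup.orderOf_dvd_natCard _ hmem
  have h2 : orderOf (g⁻¹ * x * g) = 2 := by
    rw [← hx, ← orderOf_injective (MulAut.conj g⁻¹).toMonoidHom (MulEquiv.injective _) x]
    simp
  rw [h2] at h1
  exact Nat.not_even_iff_odd.2 hodd (even_iff_two_dvd.2 h1)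

variable [IsSimpleGroup G] (hodd : Odd (Nat.card (two (G := G) a b)))
include hodd

theorem swap_set {s : G} (hs : orderOf s = 2) (hsa : s • a = b) (hsb : s • b = a) (x : G) :
    (orderOf x = 2 ∧ x • a = b) ↔ s * x ∈ two (G := G) a b := by
  constructor
  · rintro ⟨hx, hxa⟩
    have hxb : x • b = a := by rw [← hxa, smul_smul_inv hx]
    exact ⟨show (s * x) • a = a by rw [mul_smul, hxa, hsb],
      show (s * x) • b = b by rw [mul_smul, hxb, hsa]⟩
  · intro hm
    have hxa : x • a = b := by
      have h1 : (s * x) • a = a := hm.1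
      rw [mul_smul] at h1
      rw [← smul_smul_inv hs (x • a), h1, hsa]
    refine ⟨orderOf_eq_prime ?_ ?_, hxa⟩
    · have h1 := swap_inverts hc hodd hs hsa hsb hm
      rw [inv_eq hs, mul_inv_rev, inv_eq hs] at h1
      rw [← mul_assoc s s x, inv_mul_self hs, one_mul] at h1
      have h2 : x * s * s = x⁻¹ := by
        calc x * s * s = x⁻¹ * s * s := by rw [h1]
          _ = x⁻¹ := by rw [mul_assoc, inv_mul_self hs, mul_one]
      rw [mul_assoc, inv_mul_self hs, mul_one] at h2
      rw [sq]
      nth_rewrite 1 [h2]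
      exact inv_mul_cancel x
    · rintro rfl
      exact hc.ne (by simpa using hxa)

theorem isConj_swap {s : G} (hs : orderOf s = 2) (hsa : s • a = b) (hsb : s • b = a) {x : G}
    (hx : orderOf x = 2) (hxa : x • a = b) : IsConj s x := by
  set z := s * x with hz
  have hzE : z ∈ two (G := G) a b := (swap_set hc hodd hs hsa hsb x).1 ⟨hx, hxa⟩
  obtain ⟨k, hk⟩ : Odd (orderOf z) :=
    Odd.of_dvd_nat hodd (Subgroup.orderOf_dvd_natCard _ hzE)
  have hw : z ^ (k + 1) ∈ two (G := G) a b := pow_mem hzE _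
  have h1 := swap_inverts hc hodd hs hsa hsb hw
  refine isConj_iff.2 ⟨(z ^ (k + 1))⁻¹, ?_⟩
  rw [inv_inv, ← h1]
  have h3 : x = s * z := by rw [hz, ← mul_assoc, inv_mul_self hs, one_mul]
  have h4 : z ^ (k + 1) * z ^ (k + 1) = z := by
    rw [← pow_add, show k + 1 + (k + 1) = orderOf z + 1 by omega, pow_succ, pow_orderOf_eq_one,
      one_mul]
  calc s⁻¹ * z ^ (k + 1) * s * s * z ^ (k + 1)
      = s⁻¹ * (z ^ (k + 1) * (s * s) * z ^ (k + 1)) := by group
    _ = s * z := by rw [inv_mul_self hs, mul_one, h4, inv_eq hs]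
    _ = x := h3.symm

theorem isConj_all {x y : G} (hx : orderOf x = 2) (hy : orderOf y = 2) : IsConj x y := by
  obtain ⟨s, hs, hsa, hsb⟩ := exists_swap hc
  haveI : FaithfulSMul G Ω := hc.zass.1
  have key : ∀ z : G, orderOf z = 2 → IsConj s z := by
    intro z hz
    obtain ⟨c, hcz⟩ : ∃ c : Ω, z • c ≠ c := by
      by_contra h
      push Not at h
      rw [show z = 1 from eq_of_smul_eq_smul fun c : Ω => by rw [h c, one_smul]] at hz
      simp at hz
    obtain ⟨g, hga, hgb⟩ := Zassenhaus.two_trans hc.zass hc.ne hcz.symm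
    have h2 : orderOf (g⁻¹ * z * g) = 2 := by
      rw [← hz, ← orderOf_injective (MulAut.conj g⁻¹).toMonoidHom (MulEquiv.injective _) z]
      simp
    have h3 : (g⁻¹ * z * g) • a = b := by
      rw [mul_smul, mul_smul, hga, inv_smul_eq_iff, hgb]
    exact (isConj_swap hc hodd hs hsa hsb h2 h3).trans (isConj_iff.2 ⟨g, by group⟩)
  exact (key x hx).symm.trans (key y hy)

theorem card_moving {c d : Ω} (hcd : c ≠ d) :
    Nat.card {x : G // orderOf x = 2 ∧ x • c = d} = Nat.card (two (G := G) a b) := by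
  obtain ⟨s, hs, hsa, hsb⟩ := exists_swap hc
  obtain ⟨g, hga, hgb⟩ := Zassenhaus.two_trans hc.zass hc.ne hcd
  refine Nat.card_congr (Equiv.subtypeEquiv
    ((MulAut.conj g⁻¹).toEquiv.trans (Equiv.mulLeft s)) fun x => ?_)
  show _ ↔ s * (g⁻¹ * x * g⁻¹⁻¹) ∈ two (G := G) a b
  rw [← swap_set hc hodd hs hsa hsb, inv_inv]
  have h2 : orderOf (g⁻¹ * x * g) = orderOf x := by
    rw [← orderOf_injective (MulAut.conj g⁻¹).toMonoidHom (MulEquiv.injective _) x]
    simp
  rw [h2, mul_smul, mul_smul, hga, inv_smul_eq_iff, hgb]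

theorem fixed_card {x : G} (hx : orderOf x = 2) :
    Nat.card (MulAction.fixedBy Ω x) = if Even (Nat.card H) then 1 else 0 := by
  haveI : FaithfulSMul G Ω := hc.zass.1
  obtain ⟨c, hcx⟩ : ∃ c : Ω, x • c ≠ c := by
    by_contra h
    push Not at h
    rw [show x = 1 from eq_of_smul_eq_smul fun c : Ω => by rw [h c, one_smul]] at hx
    simp at hx
  obtain ⟨h1, h2⟩ := (Cfsg.Agent.S0740.result hc.zass hcx.symm).2.1 x hx rfl
    (smul_smul_inv hx c)
  have h3 := hc.card
  split_ifs with he
  · exact h1 (h3 ▸ he.add_one)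
  · rcases h2 (h3 ▸ (Nat.not_even_iff_odd.1 he).add_one) with h | h
    · exact h
    · exfalso
      obtain ⟨⟨p, hp⟩, ⟨q, hq⟩, hpq, -⟩ := (Nat.card_eq_two_iff.1 h)
      exact hpq (Subtype.ext (fix_unique hc hodd hx hp hq))

theorem no_fix (hh : ¬ Even (Nat.card H)) {x : G} (hx : orderOf x = 2) (c : Ω) : x • c ≠ c := by
  intro hxc
  have h := fixed_card hc hodd hx
  rw [if_neg hh] at h
  haveI : Nonempty (MulAction.fixedBy Ω x) := ⟨⟨c, hxc⟩⟩
  exact (Nat.card_pos (α := MulAction.fixedBy Ω x)).ne' h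

theorem card_involutions :
    Nat.card {x : G // orderOf x = 2} * (Fintype.card Ω - if Even (Nat.card H) then 1 else 0) =
      Fintype.card Ω * Nat.card H * Nat.card (two (G := G) a b) := by
  classical
  haveI := Fintype.ofFinite G
  let J : Finset G := Finset.univ.filter fun x => orderOf x = 2
  let P : Finset (Ω × Ω) := (Finset.univ : Finset Ω).offDiag
  have h1 : ∀ x ∈ J, (P.filter fun p => x • p.1 = p.2).card =
      Fintype.card Ω - (if Even (Nat.card H) then 1 else 0) := by
    intro x hx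
    rw [← fixed_card hc hodd (Finset.mem_filter.1 hx).2, Nat.card_eq_fintype_card,
      ← Fintype.card_compl_set, ← Finset.card_univ (α := ((MulAction.fixedBy Ω x)ᶜ : Set Ω))]
    refine Finset.card_bij' (fun p hp => ⟨p.1, ?_⟩) (fun c _ => ((c : Ω), x • (c : Ω))) ?_ ?_ ?_ ?_
    · simp only [P, Finset.mem_filter, Finset.mem_offDiag] at hp
      exact fun h => hp.1.2.2 (h.symm.trans hp.2)
    · exact fun p hp => Finset.mem_univ _
    · rintro ⟨c, hc'⟩ -
      simp only [P, Finset.mem_filter, Finset.mem_offDiag, Finset.mem_univ, true_and, and_true]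
      exact fun h => hc' h.symm
    · intro p hp
      simp only [Finset.mem_filter] at hp
      exact Prod.ext rfl hp.2
    · exact fun c _ => Subtype.ext rfl
  have h2 : ∀ p ∈ P, (J.filter fun x => x • p.1 = p.2).card = Nat.card (two (G := G) a b) := by
    intro p hp
    rw [← card_moving hc hodd (Finset.mem_offDiag.1 hp).2.2, Nat.card_eq_fintype_card,
      Fintype.card_subtype, Finset.filter_filter]
  have h3 := Finset.sum_card_bipartiteAbove_eq_sum_card_bipartiteBelow (s := J) (t := P)
    (fun x p => x • p.1 = p.2)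
  simp only [Finset.bipartiteAbove, Finset.bipartiteBelow] at h3
  rw [Finset.sum_congr rfl h1, Finset.sum_congr rfl h2, Finset.sum_const, Finset.sum_const,
    smul_eq_mul, smul_eq_mul, Finset.offDiag_card, Finset.card_univ] at h3
  rw [Nat.card_eq_fintype_card (α := {x : G // orderOf x = 2}), Fintype.card_subtype, h3]
  congr 1
  rw [← hc.card, Nat.mul_add, mul_one, Nat.add_sub_cancel]

theorem card_involutions_even (he : Even (Nat.card H)) :
    Nat.card {x : G // orderOf x = 2} = Nat.card (two (G := G) a b) * Fintype.card Ω := by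
  have h := card_involutions hc hodd
  rw [if_pos he] at h
  rw [show Fintype.card Ω - 1 = Nat.card H by rw [← hc.card]; omega] at h
  refine Nat.eq_of_mul_eq_mul_right (Nat.card_pos (α := H)) (h.trans ?_)
  ring

theorem card_involutions_odd (he : ¬ Even (Nat.card H)) :
    Nat.card {x : G // orderOf x = 2} = Nat.card (two (G := G) a b) * Nat.card H := by
  have h := card_involutions hc hodd
  rw [if_neg he, Nat.sub_zero] at h
  refine Nat.eq_of_mul_eq_mul_right (show 0 < Fintype.card Ω by rw [← hc.card]; omega) (h.trans ?_)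
  ring

theorem mem_H_of_fix {x : G} (hx : orderOf x = 2) (hxa : x • a = a) : x ∈ H :=
  Zassenhaus.mem_of_fix_only hc.zass a H hc.le hc.card hc.fix hxa
    fun _ hxc => fix_unique hc hodd hx hxc hxa

theorem card_fixing (he : Even (Nat.card H)) (c : Ω) :
    Nat.card {x : G // orderOf x = 2 ∧ x • c = c} = Nat.card (two (G := G) a b) := by
  classical
  haveI := pretransitive hc
  have hall : ∀ d : Ω, Nat.card {x : G // orderOf x = 2 ∧ x • d = d} =
      Nat.card {x : G // orderOf x = 2 ∧ x • c = c} := by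
    intro d
    obtain ⟨g, hg⟩ := MulAction.exists_smul_eq G c d
    refine Nat.card_congr (Equiv.subtypeEquiv (MulAut.conj g⁻¹).toEquiv fun x => ?_)
    show _ ↔ orderOf (g⁻¹ * x * g⁻¹⁻¹) = 2 ∧ (g⁻¹ * x * g⁻¹⁻¹) • c = c
    have h2 : orderOf (g⁻¹ * x * g⁻¹⁻¹) = orderOf x :=
      orderOf_injective (MulAut.conj g⁻¹).toMonoidHom (MulEquiv.injective _) x
    rw [h2, inv_inv, mul_smul, mul_smul, hg, inv_smul_eq_iff, hg]
  let f : (Σ d : Ω, {x : G // orderOf x = 2 ∧ x • d = d}) → {x : G // orderOf x = 2} :=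
    fun p => ⟨p.2.1, p.2.2.1⟩
  have hf : Function.Bijective f := by
    constructor
    · rintro ⟨d, x, hx, hxd⟩ ⟨d', x', hx', hxd'⟩ h
      obtain rfl : x = x' := congrArg Subtype.val h
      obtain rfl := fix_unique hc hodd hx hxd hxd'
      rfl
    · rintro ⟨x, hx⟩
      have h := fixed_card hc hodd hx
      rw [if_pos he] at h
      obtain ⟨⟨⟨d, hd⟩⟩⟩ := (Nat.card_pos_iff (α := MulAction.fixedBy Ω x)).1 (h ▸ one_pos)
      exact ⟨⟨d, x, hx, hd⟩, rfl⟩
  have h1 := Nat.card_congr (Equiv.ofBijective f hf)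
  rw [Nat.card_sigma, Finset.sum_congr rfl fun d _ => hall d, Finset.sum_const, Finset.card_univ,
    smul_eq_mul, card_involutions_even hc hodd he, mul_comm (Fintype.card Ω)] at h1
  exact Nat.eq_of_mul_eq_mul_right (show 0 < Fintype.card Ω by rw [← hc.card]; omega) h1

/-- When the point stabilizer contains involutions, they are central in its kernel. -/
theorem involution_central (he : Even (Nat.card H)) {x : G} (hx : x ∈ H) (hx2 : orderOf x = 2)
    {u : G} (hu : u ∈ H) : x * u = u * x := by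
  classical
  let N := MulAction.stabilizer G a
  let C : Subgroup N := (Subgroup.centralizer ({x} : Set G)).subgroupOf N
  let J := {y : G // orderOf y = 2 ∧ y • a = a}
  have hxa : x • a = a := hc.le hx
  have hord : ∀ g : G, orderOf (g * x * g⁻¹) = 2 := fun g =>
    (orderOf_injective (MulAut.conj g).toMonoidHom (MulEquiv.injective _) x).trans hx2
  let f : N → J := fun g => ⟨(g : G) * x * (g : G)⁻¹, hord g, by
    rw [mul_smul, mul_smul, inv_smul_eq_iff.2 (show a = (g : G) • a from g.2.symm), hxa]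
    exact g.2⟩
  have hker : ∀ g g' : N, f g = f g' ↔ g⁻¹ * g' ∈ C := by
    intro g g'
    rw [Subgroup.mem_subgroupOf, Subgroup.mem_centralizer_singleton_iff]
    constructor
    · intro h
      have h' : (g : G) * x * (g : G)⁻¹ = g' * x * (g' : G)⁻¹ := congrArg Subtype.val h
      calc ((g : G)⁻¹ * g') * x = (g : G)⁻¹ * (g' * x * (g' : G)⁻¹) * g' := by group
        _ = (g : G)⁻¹ * (g * x * (g : G)⁻¹) * g' := by rw [h']
        _ = x * ((g : G)⁻¹ * g') := by group
    · intro h
      refine Subtype.ext ?_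
      show (g : G) * x * (g : G)⁻¹ = g' * x * (g' : G)⁻¹
      calc (g : G) * x * (g : G)⁻¹ = g * (x * ((g : G)⁻¹ * g')) * (g' : G)⁻¹ := by group
        _ = g * (((g : G)⁻¹ * g') * x) * (g' : G)⁻¹ := by rw [Subgroup.coe_mul, Subgroup.coe_inv] at h; rw [h]
        _ = g' * x * (g' : G)⁻¹ := by group
  let F : N ⧸ C → J := fun q => Quotient.liftOn' q f fun g g' h =>
    (hker g g').2 (QuotientGroup.leftRel_apply.1 h)
  have hF : Function.Bijective F := by
    constructor
    · intro q q'
      induction q using QuotientGroup.induction_on with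
      | H g =>
        induction q' using QuotientGroup.induction_on with
        | H g' => exact fun h => QuotientGroup.eq.2 ((hker g g').1 h)
    · rintro ⟨y, hy, hya⟩
      obtain ⟨g, hg⟩ := isConj_iff.1 (isConj_all hc hodd hx2 hy)
      have hga : g ∈ N := by
        by_contra hgN
        have := Zassenhaus.kernel_TI a H hc.le hc.fix hgN hx (hg ▸ mem_H_of_fix hc hodd hy hya)
        rw [this] at hx2
        simp at hx2
      exact ⟨QuotientGroup.mk (⟨g, hga⟩ : N), Subtype.ext hg⟩
  have h1 : C.index = Nat.card (two (G := G) a b) :=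
    (Nat.card_congr (Equiv.ofBijective F hF)).trans (card_fixing hc hodd he a)
  have h2 : Nat.card C = Nat.card H := by
    have h3 := Subgroup.index_mul_card C
    rw [h1, card_stabilizer hc, mul_comm (Nat.card H)] at h3
    exact Nat.eq_of_mul_eq_mul_left Nat.card_pos h3
  obtain ⟨π, hπH, hπE⟩ := exists_proj hc
  have hEN : two (G := G) a b ≤ Subgroup.normalizer (H : Set G) := by
    rw [Zassenhaus.normalizer_kernel hc.zass a H hc.le hc.card hc.fix]
    exact inf_le_left
  have hcop := Cfsg.Agent.Coprime.fpf_coprime hEN (two_fpf hc)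
  have hCH : C ≤ H.subgroupOf N := by
    intro g hg
    have h4 : orderOf (π g) = 1 := Nat.eq_one_of_dvd_coprimes hcop (orderOf_dvd_natCard _)
      ((orderOf_map_dvd π g).trans (h2 ▸ Subgroup.orderOf_dvd_natCard _ hg))
    rw [orderOf_eq_one_iff] at h4
    obtain ⟨v, hv, z, hz, he'⟩ := exists_decomp hc g.2
    have h5 : g = (⟨v, hc.le hv⟩ : N) * ⟨z, hz.1⟩ := Subtype.ext he'
    rw [h5, map_mul, hπH ⟨v, hc.le hv⟩ hv, hπE ⟨z, hz.1⟩ hz, one_mul] at h4
    have hz1 : z = 1 := congrArg Subtype.val h4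
    rw [Subgroup.mem_subgroupOf, he', hz1, mul_one]
    exact hv
  have hEq : C = H.subgroupOf N := Subgroup.eq_of_le_of_card_ge hCH (by
    rw [h2, Nat.card_congr (Subgroup.subgroupOfEquivOfLe hc.le).toEquiv])
  have hm : (⟨u, hc.le hu⟩ : N) ∈ C := by rw [hEq]; exact hu
  exact (Subgroup.mem_centralizer_singleton_iff.1 hm).symm

theorem real_in_H {u : G} (hu : u ∈ H) (hu1 : u ≠ 1) {x y : G} (hx : orderOf x = 2)
    (hy : orderOf y = 2) (hxy : x * y = u) : x • a = a ∧ y • a = a := by
  have hua : u • a = a := hc.le hu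
  have hy' : y = x * u := by rw [← hxy, ← mul_assoc, inv_mul_self hx, one_mul]
  have hinv : x * u * x = u⁻¹ := by
    rw [← hy', ← hxy, mul_inv_rev, inv_eq hx, inv_eq hy]
  have h1 : u⁻¹ • (x • a) = x • a := by
    rw [← hinv, mul_smul, smul_smul_inv hx, mul_smul, hua]
  have h2 : u • (x • a) = x • a := by
    nth_rewrite 1 [← h1]
    exact smul_inv_smul u _
  have h3 : x • a = a := hc.fix u hu hu1 _ h2
  exact ⟨h3, by rw [hy', mul_smul, hua, h3]⟩

theorem orderOf_real {u : G} (hu : u ∈ H) (hu1 : u ≠ 1) {x y : G} (hx : orderOf x = 2)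
    (hy : orderOf y = 2) (hxy : x * y = u) : orderOf u = 2 := by
  obtain ⟨hxa, hya⟩ := real_in_H hc hodd hu hu1 hx hy hxy
  by_cases he : Even (Nat.card H)
  · refine orderOf_eq_prime ?_ hu1
    have h := involution_central hc hodd he (mem_H_of_fix hc hodd hx hxa) hx
      (mem_H_of_fix hc hodd hy hya)
    rw [← hxy, (show Commute x y from h).mul_pow, sq, sq, inv_mul_self hx, inv_mul_self hy, mul_one]
  · exact absurd hxa (no_fix hc hodd he hx a)

end Cfsg.Agent.CharTheory.Zassenhaus
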