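import Mathlib
import Cfsg.Agent.Lib.CharTheory.Zassenhaus.Involutions

/-!
Counting classes by the products of pairs of involutions.
-/

set_option autoImplicit false
set_option linter.unusedSectionVars false

namespace Cfsg.Agent.CharTheory.Zassenhaus

universe u

variable {G : Type u} [Group G] [Fintype G]

/-- A class is the product of at most `|G|` pairs of involutions. -/
theorem card_pairs_le (S : Finset (G × G)) (hS : ∀ p ∈ S, orderOf p.1 = 2 ∧ orderOf p.2 = 2)
    (C : ConjClasses G) [DecidablePred fun p : G × G => ConjClasses.mk (p.1 * p.2) = C] :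
    (S.filter fun p => ConjClasses.mk (p.1 * p.2) = C).card ≤ Fintype.card G := by
  classical
  rcases Finset.eq_empty_or_nonempty (S.filter fun p => ConjClasses.mk (p.1 * p.2) = C) with h | ⟨p₀, hp₀⟩
  · simp [h]
  simp only [Finset.mem_filter] at hp₀
  obtain ⟨hx₀, hy₀⟩ := hS p₀ hp₀.1
  set g₀ := p₀.1 * p₀.2 with hg₀
  have hg₀i : p₀.1 * g₀ * p₀.1 = g₀⁻¹ := by
    rw [hg₀, ← mul_assoc, inv_mul_self hx₀, one_mul, mul_inv_rev, inv_eq hx₀, inv_eq hy₀]
  choose! t ht using fun g (h : IsConj g₀ g) => isConj_iff.1 h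
  have hkey : ∀ p ∈ S.filter (fun p => ConjClasses.mk (p.1 * p.2) = C),
      (p.1 * t (p.1 * p.2) * p₀.1) * g₀ * (p.1 * t (p.1 * p.2) * p₀.1)⁻¹ = p.1 * p.2 := by
    intro p hp
    simp only [Finset.mem_filter] at hp
    obtain ⟨hx, hy⟩ := hS p hp.1
    have hconj : IsConj g₀ (p.1 * p.2) :=
      ConjClasses.mk_eq_mk_iff_isConj.1 (hp₀.2.trans hp.2.symm)
    have ht' := ht _ hconj
    set g := p.1 * p.2 with hg
    have hgi : p.1 * g⁻¹ * p.1 = g := by
      rw [hg, mul_inv_rev, inv_eq hx, inv_eq hy, mul_assoc, mul_assoc, inv_mul_self hx, mul_one]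
    calc p.1 * t g * p₀.1 * g₀ * (p.1 * t g * p₀.1)⁻¹
        = p.1 * (t g * (p₀.1 * g₀ * p₀.1⁻¹) * (t g)⁻¹) * p.1⁻¹ := by group
      _ = p.1 * (t g * g₀⁻¹ * (t g)⁻¹) * p.1 := by rw [inv_eq hx₀, hg₀i, inv_eq hx]
      _ = p.1 * g⁻¹ * p.1 := by
          rw [← conj_inv, ht']
      _ = g := hgi
  refine le_trans ?_ (Finset.card_univ (α := G)).le
  refine Finset.card_le_card_of_injOn (fun p => p.1 * t (p.1 * p.2) * p₀.1)
    (fun p _ => Finset.mem_univ _) ?_
  intro p hp q hq hpq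
  simp only at hpq
  have h1 : p.1 * p.2 = q.1 * q.2 :=
    (hkey p (Finset.mem_coe.1 hp)).symm.trans (by rw [hpq]; exact hkey q (Finset.mem_coe.1 hq))
  have h2 : p.1 = q.1 := by
    rw [h1] at hpq
    exact mul_right_cancel (mul_right_cancel hpq)
  refine Prod.ext h2 ?_
  rw [h2] at h1
  exact mul_left_cancel h1

theorem card_real_pairs_le (S : Finset (G × G)) (hS : ∀ p ∈ S, orderOf p.1 = 2 ∧ orderOf p.2 = 2)
    (P : ConjClasses G → Prop) (hP : ∀ p ∈ S, P (ConjClasses.mk (p.1 * p.2))) :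
    S.card ≤ Nat.card {C : ConjClasses G // P C} * Fintype.card G := by
  classical
  rw [Nat.card_eq_fintype_card, Fintype.card_subtype, mul_comm]
  refine le_trans (Finset.card_le_mul_card_image _ (Fintype.card G) fun C _ => card_pairs_le S hS C) ?_
  refine Nat.mul_le_mul_left _ (Finset.card_le_card fun C hC => ?_)
  obtain ⟨p, hp, rfl⟩ := Finset.mem_image.1 hC
  simp only [Finset.mem_filter, Finset.mem_univ, true_and]
  exact hP p hp

end Cfsg.Agent.CharTheory.Zassenhaus
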