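import Mathlib
import Cfsg.Agent.Lib.CharTheory.Zassenhaus.Chars
import Cfsg.Agent.S0852
import Cfsg.Agent.S0853
import Cfsg.Agent.S0884

/-!
Feit: in a simple Zassenhaus group with `h - 1 > 2e`, `e` odd, the characters of the point
stabilizer non-trivial on the kernel do not form a coherent set.
-/

set_option autoImplicit false
set_option linter.unusedSectionVars false

namespace Cfsg.Agent.CharTheory.Zassenhaus

open Cfsg.Agent.CharactersDeep
open Cfsg.Agent.Characters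
open scoped ComplexConjugate

universe u v

variable {G : Type u} {Ω : Type v} [Group G] [Fintype G] [MulAction G Ω] [Fintype Ω] {a b : Ω}
  {H : Subgroup G} (hc : Config a b H) [IsSimpleGroup G]
  (hodd : Odd (Nat.card (two (G := G) a b)))
include hc hodd

/-- `G` has more classes than the point stabilizer. -/
theorem card_irr_lt (hlt : 2 * Nat.card (two (G := G) a b) < Nat.card H - 1) {L : Subgroup G}
    (hL : L = MulAction.stabilizer G a) :
    Nat.card (Cfsg.IrrCharacter L) + 1 ≤ Nat.card (Cfsg.IrrCharacter G) := by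
  classical
  subst hL
  set L := MulAction.stabilizer G a
  haveI := Fintype.ofFinite L
  haveI := Fintype.ofFinite (ConjClasses G)
  haveI := Fintype.ofFinite (ConjClasses L)
  have h0 := S0884.result hc.zass hc.ne (Nat.card H) (Nat.card (two (G := G) a b)) hc.card.symm rfl
    hodd hlt H hc.le hc.card hc.fix
  rw [card_irrCharacter, card_irrCharacter]
  let PG : ConjClasses G → Prop := fun C => ∀ g : G, ConjClasses.mk g = C → g ∉ H
  let PL : ConjClasses L → Prop := fun C => ∀ g : L, ConjClasses.mk g = C → (g : G) ∉ H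
  have hG : Nat.card (ConjClasses G) = Nat.card {C // PG C} + Nat.card {C // ¬ PG C} := by
    rw [← Nat.card_sum]; exact Nat.card_congr (Equiv.sumCompl PG).symm
  have hLsum : Nat.card (ConjClasses L) = Nat.card {C // PL C} + Nat.card {C // ¬ PL C} := by
    rw [← Nat.card_sum]; exact Nat.card_congr (Equiv.sumCompl PL).symm
  have hin : Nat.card {C // ¬ PL C} ≤ Nat.card {C // ¬ PG C} := by
    have hspec : ∀ C : {C // ¬ PL C}, ∃ g : L, ConjClasses.mk g = C.1 ∧ (g : G) ∈ H := fun C => by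
      have := C.2
      simp only [PL] at this
      push Not at this
      exact this
    choose g hg hgH using hspec
    refine Nat.card_le_card_of_injective (fun C => (⟨ConjClasses.mk (g C : G),
      fun h => h _ rfl (hgH C)⟩ : {C // ¬ PG C})) fun C C' e => Subtype.ext ?_
    obtain ⟨t, ht⟩ := isConj_iff.1 (ConjClasses.mk_eq_mk_iff_isConj.1 (congrArg Subtype.val e))
    rw [← hg C, ← hg C', ConjClasses.mk_eq_mk_iff_isConj, isConj_iff]
    by_cases h1 : (g C : G) = 1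
    · refine ⟨1, Subtype.ext ?_⟩
      rw [h1, mul_one, mul_inv_cancel] at ht
      simp [h1, ← ht]
    · refine ⟨⟨t, mem_stabilizer_of_conj hc (hgH C) h1 ?_⟩, Subtype.ext (by simpa using ht)⟩
      rw [ht]; exact hgH C'
  have hout : Nat.card {C // PL C} + 1 ≤ Nat.card (two (G := G) a b) := by
    haveI := Fintype.ofFinite (two (G := G) a b)
    have h1 : Nat.card {z : two (G := G) a b // z ≠ 1} + 1 = Nat.card (two (G := G) a b) := by
      rw [Nat.card_eq_fintype_card, Nat.card_eq_fintype_card, Fintype.card_subtype_compl,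
        Fintype.card_subtype_eq]
      have : 0 < Fintype.card (two (G := G) a b) := Fintype.card_pos
      omega
    rw [← h1]
    refine Nat.add_le_add_right ?_ 1
    have hspec : ∀ C : {C // PL C}, ∃ z : {z : two (G := G) a b // z ≠ 1},
        ConjClasses.mk (⟨((z : two (G := G) a b) : G), (z : two (G := G) a b).2.1⟩ : L) = C.1 := by
      intro C
      obtain ⟨x, hx⟩ := ConjClasses.mk_surjective C.1
      have hxH : (x : G) ∉ H := C.2 x hx
      obtain ⟨u, hu, hz⟩ := exists_conj_two hc x.2 hxH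
      refine ⟨⟨⟨_, hz⟩, fun e => hxH ?_⟩, ?_⟩
      · have e' : u * (x : G) * u⁻¹ = 1 := congrArg Subtype.val e
        rw [conj_eq_one_iff.1 e']; exact H.one_mem
      · rw [← hx, ConjClasses.mk_eq_mk_iff_isConj, isConj_comm, isConj_iff]
        exact ⟨⟨u, hc.le hu⟩, Subtype.ext (by simp)⟩
    choose z hz using hspec
    exact Nat.card_le_card_of_injective z fun C C' e => Subtype.ext (by rw [← hz C, ← hz C', e])
  have h0' : Nat.card (two (G := G) a b) ≤ Nat.card {C // PG C} := h0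
  omega

omit hodd in
/-- Values of a character constant on the non-trivial kernel elements. -/
theorem const_value {ψ : G → ℂ} (hψ : Cfsg.IsIrrCharacter G ψ) {u : G} (hu : u ∈ H) (hu1 : u ≠ 1)
    {d : ℕ} (hd : ψ 1 = (d : ℂ)) (hconst : ∀ v ∈ H, v ≠ 1 → ψ v = ψ u) :
    ∃ c k : ℤ, ψ u = (c : ℂ) ∧ (d : ℤ) - c = Nat.card H * k ∧
      (k = 0 → ψ = fun _ => 1) := by
  classical
  haveI := Fintype.ofFinite H
  have hψc := isCharacter_of_isIrr hψ
  obtain ⟨r, hr⟩ := classInner_char_nat (isCharacter_restrict H hψc) (isCharacter_one (G := H))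
  rw [classInner_def, inv_mul_eq_iff_eq_mul₀ natCard_ne_zero] at hr
  simp only [map_one, mul_one] at hr
  have hcst : ∀ v ∈ (Finset.univ : Finset H).erase 1, ψ (v : G) = ψ u := fun v hv =>
    hconst v v.2 fun e => Finset.ne_of_mem_erase hv (Subtype.ext e)
  rw [← Finset.add_sum_erase _ _ (Finset.mem_univ (1 : H)),
    Finset.sum_congr rfl hcst,
    Finset.sum_const, Finset.card_erase_of_mem (Finset.mem_univ _), Finset.card_univ, nsmul_eq_mul,
    Nat.cast_sub Fintype.card_pos, ← Nat.card_eq_fintype_card, Nat.cast_one, OneMemClass.coe_one,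
    hd] at hr
  have h2 : 2 ≤ Nat.card H := by
    haveI : Nontrivial H := nontrivial_of_ne ⟨u, hu⟩ 1 fun e => hu1 (congrArg Subtype.val e)
    exact Finite.one_lt_card
  let q : ℚ := ((Nat.card H : ℚ) * r - d) / ((Nat.card H : ℚ) - 1)
  have h0 : ((Nat.card H : ℂ) - 1) ≠ 0 := by
    rw [sub_ne_zero, ne_eq, Nat.cast_eq_one]; omega
  have hq : ψ u = (q : ℂ) := by
    simp only [q]; push_cast
    rw [eq_div_iff h0]; linear_combination hr
  obtain ⟨c, hc'⟩ := exists_int_of_isIntegral_ratCast (hq ▸ char_value_isIntegral hψc u)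
  have hcu : ψ u = (c : ℂ) := hq.trans (by rw [hc'])
  have hdk : (d : ℤ) - c = Nat.card H * ((r : ℤ) - c) := by
    have : (((d : ℤ) - c : ℤ) : ℂ) = ((Nat.card H * ((r : ℤ) - c) : ℤ) : ℂ) := by
      rw [hcu] at hr
      push_cast
      linear_combination hr
    exact_mod_cast this
  refine ⟨c, (r : ℤ) - c, hcu, hdk, fun hk => ?_⟩
  rw [hk, mul_zero, sub_eq_zero] at hdk
  have hker : u ∈ charKernel ψ hψc := by
    rw [mem_charKernel, hd, hcu, ← hdk, Int.cast_natCast]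
  have htop := ((charKernel_normal hψc).eq_bot_or_eq_top).resolve_left
    fun h => hu1 (by rwa [h, Subgroup.mem_bot] at hker)
  have hall : ∀ g, ψ g = (d : ℂ) := fun g =>
    (mem_charKernel.1 (htop ▸ Subgroup.mem_top g : g ∈ charKernel ψ hψc)).trans hd
  by_contra hne
  have h1 := classInner_isIrr_ne hψ isIrrCharacter_one hne
  rw [classInner_def] at h1
  simp only [hall, map_one, mul_one, Finset.sum_const, Finset.card_univ, nsmul_eq_mul,
    ← Nat.card_eq_fintype_card] at h1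
  rw [inv_mul_cancel_left₀ natCard_ne_zero] at h1
  exact irr_one_ne_zero hψ (hd.trans h1)

/-- The characters non-trivial on the kernel are not coherent. -/
theorem not_coherent (hlt : 2 * Nat.card (two (G := G) a b) < Nat.card H - 1)
    (hnil : Group.IsNilpotent H) {L : Subgroup G} [Fintype L]
    (hLn : L = Subgroup.normalizer (H : Set G)) (star : (L → ℂ) → (G → ℂ))
    (hstar : Cfsg.IsLinearIsometryOn (Cfsg.zspan {χ : L → ℂ |
      Cfsg.IsIrrCharacter L χ ∧ ∃ k : L, (k : G) ∈ H ∧ χ k ≠ χ 1}) star)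
    (hext : ∀ α ∈ Cfsg.zspanOn {χ : L → ℂ |
      Cfsg.IsIrrCharacter L χ ∧ ∃ k : L, (k : G) ∈ H ∧ χ k ≠ χ 1} ({1}ᶜ : Set L),
      star α = Cfsg.indFun L α) : False := by
  classical
  set S : Set (L → ℂ) := {χ : L → ℂ | Cfsg.IsIrrCharacter L χ ∧
    ∃ k : L, (k : G) ∈ H ∧ χ k ≠ χ 1} with hS
  haveI := Fintype.ofFinite (Cfsg.IrrCharacter L)
  haveI := Fintype.ofFinite (Cfsg.IrrCharacter G)
  have hL : L = MulAction.stabilizer G a :=
    hLn.trans (Zassenhaus.normalizer_kernel hc.zass a H hc.le hc.card hc.fix)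
  set K := H.subgroupOf L with hK
  haveI : K.Normal := by subst hLn; exact Subgroup.normal_in_normalizer
  have hHL : H ≤ L := hLn ▸ Subgroup.le_normalizer
  set e := Nat.card (two (G := G) a b) with he
  set h := Nat.card H with hh
  obtain ⟨s, hs⟩ := hodd
  have hodd' : Odd (Nat.card (two (G := G) a b)) := ⟨s, hs⟩
  have hs1 : 1 ≤ s := by
    by_contra hs0
    have h1 : e = 1 := by omega
    refine Zassenhaus.two_point_ne_bot hc.zass hc.ne ?_
    exact Subgroup.card_eq_one.1 h1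
  have hGcard : Nat.card G = (h + 1) * (h * e) := card_group' hc
  have hKcard : Nat.card K = h := Nat.card_congr (Subgroup.subgroupOfEquivOfLe hHL).toEquiv
  have hLcard : Nat.card L = h * e := by rw [hL]; exact card_stabilizer hc
  have hidx : K.index = e := by
    have h1 := K.index_mul_card
    rw [hKcard, hLcard, mul_comm h e] at h1
    exact Nat.eq_of_mul_eq_mul_right Nat.card_pos h1
  -- characters of the normalizer
  obtain ⟨hlin, hlincard⟩ := not_rel_irr hc hodd' hL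
  let SL := Finset.univ.filter fun ξ : Cfsg.IrrCharacter L => TIFrobenius.Rel K (ξ : L → ℂ)
  let Lin := Finset.univ.filter fun ξ : Cfsg.IrrCharacter L => ¬ TIFrobenius.Rel K (ξ : L → ℂ)
  have hLin : Lin.card = e := by
    rw [← Fintype.card_subtype, ← Nat.card_eq_fintype_card]; exact hlincard
  have hsplit : ∀ f : Cfsg.IrrCharacter L → ℂ, ∑ ξ ∈ SL, f ξ + ∑ ξ ∈ Lin, f ξ = ∑ ξ, f ξ :=
    fun f => Finset.sum_filter_add_sum_filter_not _ _ _
  have hLinval : ∀ ξ ∈ Lin, ∀ x : L, (x : G) ∈ H → (ξ : L → ℂ) x = 1 := fun ξ hξ =>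
    (hlin _ ξ.2 (Finset.mem_filter.1 hξ).2).2
  have hLin1 : ∀ ξ ∈ Lin, (ξ : L → ℂ) 1 = 1 := fun ξ hξ => (hlin _ ξ.2 (Finset.mem_filter.1 hξ).2).1
  choose dL hdL using fun ξ : Cfsg.IrrCharacter L => char_one_nat (irr_isCharacter ξ)
  have hSLsq : ∑ ξ ∈ SL, (dL ξ : ℂ) ^ 2 = (e : ℂ) * ((h : ℂ) - 1) := by
    have h1 := hsplit fun ξ => (dL ξ : ℂ) ^ 2
    have h0 : ∀ ξ ∈ Lin, (dL ξ : ℂ) ^ 2 = 1 := fun ξ hξ => by rw [← hdL, hLin1 ξ hξ, one_pow]
    rw [Finset.sum_congr (s₁ := Lin) rfl h0] at h1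
    rw [Finset.sum_const, hLin, nsmul_eq_mul, mul_one,
      show ∑ ξ, (dL ξ : ℂ) ^ 2 = (Nat.card L : ℂ) from by
        rw [← sum_degree_sq]; exact Finset.sum_congr rfl fun ξ _ => by rw [hdL],
      hLcard] at h1
    push_cast at h1
    linear_combination h1
  have hCK : TIFrobenius.CentLe K := fun k hk hk1 y hy =>
    centralizer_le_kernel hc hk (fun e' => hk1 (Subtype.ext e'))
      (Subgroup.mem_centralizer_singleton_iff.2
        (congrArg Subtype.val (Subgroup.mem_centralizer_singleton_iff.1 hy)))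
  -- a member of degree e
  obtain ⟨lam, hlam, hlamd⟩ : ∃ lam ∈ SL, dL lam = e := by
    haveI : Group.IsNilpotent K :=
      Group.nilpotent_of_mulEquiv (Subgroup.subgroupOfEquivOfLe hHL).symm
    haveI : Nontrivial K := by
      rw [← Finite.one_lt_card_iff_nontrivial, hKcard]; omega
    have h1 : 1 < Nat.card (K →* ℂˣ) := by
      rw [card_linear_hom]
      rcases Nat.lt_or_ge 1 (commutator K).index with h | h
      · exact h
      · exact absurd (Subgroup.index_eq_one.1 (le_antisymm h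
          (Nat.one_le_iff_ne_zero.2 Subgroup.index_ne_zero_of_finite)))
          (Group.IsSolvable.commutator_lt_top_of_nontrivial K).ne
    haveI := Finite.one_lt_card_iff_nontrivial.1 h1
    obtain ⟨φ, hφ⟩ := exists_ne (1 : K →* ℂˣ)
    have hne : (fun x : K => ((φ x : ℂˣ) : ℂ)) ≠ fun _ => 1 := fun h2 =>
      hφ (MonoidHom.ext fun x => Units.ext (congrFun h2 x))
    refine ⟨⟨_, TIFrobenius.isIrr_indFun hCK (isIrrCharacter_linear φ) hne⟩,
      Finset.mem_filter.2 ⟨Finset.mem_univ _,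
        TIFrobenius.rel_indFun (isIrrCharacter_linear φ) hne⟩, ?_⟩
    have h2 := hdL ⟨_, TIFrobenius.isIrr_indFun hCK (isIrrCharacter_linear φ) hne⟩
    simp only [Characters.indFun_one, map_one, Units.val_one, mul_one, hidx] at h2
    exact_mod_cast h2.symm
  have htwo : ∃ χ ∈ S, ∃ ξ ∈ S, χ ≠ ξ := by
    obtain ⟨ξ, hξ, hne⟩ : ∃ ξ ∈ SL, ξ ≠ lam := by
      by_contra hno
      push Not at hno
      have h1 := hSLsq
      rw [Finset.eq_singleton_iff_unique_mem.2 ⟨hlam, hno⟩, Finset.sum_singleton, hlamd] at h1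
      have h2 : ((e * e + e : ℕ) : ℂ) = ((e * h : ℕ) : ℂ) := by
        push_cast; linear_combination h1
      have h3 : e * e + e = e * h := Nat.cast_injective h2
      have h4 : e * (e + 1) = e * h := by rw [← h3]; ring
      have := Nat.eq_of_mul_eq_mul_left (by omega) h4
      omega
    exact ⟨ξ, ⟨ξ.2, (Finset.mem_filter.1 hξ).2⟩, lam, ⟨lam.2, (Finset.mem_filter.1 hlam).2⟩,
      fun e' => hne (Subtype.ext e')⟩
  -- the exceptional characters
  have hTI : ∀ g : G, g ∉ L → ∀ k ∈ H, g * k * g⁻¹ ∈ H → k = 1 := fun g hg k hk hgk =>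
    Zassenhaus.kernel_TI a H hc.le hc.fix (hL ▸ hg) hk hgk
  have hlt' : H < L := by
    refine lt_of_le_of_ne hHL fun e' => ?_
    have h1 : h = h * e := by rw [← hLcard, ← e']
    have h2 : h * e = h * 1 := by omega
    have := Nat.eq_of_mul_eq_mul_left (by omega) h2
    omega
  obtain ⟨h852, m, hm⟩ : (∀ ψ : G → ℂ, Cfsg.IsIrrCharacter G ψ →
      ((∃ χ ∈ S, ψ = star χ ∨ ψ = -star χ) ↔ ∃ a ∈ H, ∃ b ∈ H, a ≠ 1 ∧ b ≠ 1 ∧ ψ a ≠ ψ b)) ∧
      ∃ m : ℤ, ∀ χ ∈ S, ∀ k : L, (k : G) ∈ H → k ≠ 1 →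
        star χ k - χ k = (m : ℂ) * χ 1 / (K.index : ℂ) := by
    subst hLn
    exact ⟨S0852.result H hTI hlt' (fun k hk hk1 => centralizer_le_kernel hc hk hk1) S rfl
        htwo star hstar hext,
      S0853.result H hTI hlt' (fun k hk hk1 => centralizer_le_kernel hc hk hk1) S rfl
        htwo star hstar hext⟩
  have hmemS : ∀ ξ ∈ SL, (ξ : L → ℂ) ∈ S := fun ξ hξ => ⟨ξ.2, (Finset.mem_filter.1 hξ).2⟩
  have hex : ∀ ξ : Cfsg.IrrCharacter L, ∃ φ : Cfsg.IrrCharacter G, ξ ∈ SL →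
      star ξ = (φ : G → ℂ) ∨ star ξ = -(φ : G → ℂ) := by
    intro ξ
    by_cases hξ : ξ ∈ SL
    · have hm' := OddChar.Isometry.mem_zS (hmemS ξ hξ)
      have h1 := hstar.2.2.1 _ hm' _ hm'
      rw [classInner_isIrr_self ξ.2] at h1
      rcases isGen_norm_one (hstar.2.2.2 _ hm') h1 with h2 | h2
      · exact ⟨⟨_, h2⟩, fun _ => Or.inl rfl⟩
      · exact ⟨⟨_, h2⟩, fun _ => Or.inr (neg_neg _).symm⟩
    · exact ⟨trivIrr G, fun h' => absurd h' hξ⟩
  choose ι hι using hex
  have hinj : Set.InjOn ι (SL : Set (Cfsg.IrrCharacter L)) := by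
    intro ξ hξ ξ' hξ' he'
    by_contra hne
    have h1 := hstar.2.2.1 _ (OddChar.Isometry.mem_zS (hmemS ξ hξ)) _
      (OddChar.Isometry.mem_zS (hmemS ξ' hξ'))
    rw [classInner_isIrr_ne ξ.2 ξ'.2 fun e'' => hne (Subtype.ext e'')] at h1
    have h2 : ∀ f g : G → ℂ, Cfsg.classInner f (-g) = -Cfsg.classInner f g := fun f g => by
      simp [classInner_def]
    rcases hι ξ hξ with h | h <;> rcases hι ξ' hξ' with h' | h' <;>
      simp [h, h', he', classInner_neg_left, h2, classInner_irr] at h1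
  let T := SL.image ι
  have hTcard : T.card = SL.card := Finset.card_image_of_injOn hinj
  -- a kernel element
  obtain ⟨u, hu, hu1⟩ := Zassenhaus.exists_mem_ne_one hc.zass H hc.card
  let uL : L := ⟨u, hHL hu⟩
  have huL1 : uL ≠ 1 := fun e' => hu1 (congrArg Subtype.val e')
  have hTnonconst : ∀ ψ ∈ T, ∃ x ∈ H, x ≠ 1 ∧ (ψ : G → ℂ) x ≠ (ψ : G → ℂ) u := by
    intro ψ hψ
    obtain ⟨ξ, hξ, rfl⟩ := Finset.mem_image.1 hψ
    obtain ⟨x, hx, y, hy, hx1, hy1, hne⟩ := (h852 _ (ι ξ).2).1 ⟨ξ, hmemS ξ hξ, by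
      rcases hι ξ hξ with h | h
      · exact Or.inl h.symm
      · exact Or.inr (by rw [h, neg_neg])⟩
    by_cases h : (ι ξ : G → ℂ) x = (ι ξ : G → ℂ) u
    · exact ⟨y, hy, hy1, fun h' => hne (h.trans h'.symm)⟩
    · exact ⟨x, hx, hx1, h⟩
  choose d hd using fun ψ : Cfsg.IrrCharacter G => char_one_nat (irr_isCharacter ψ)
  have hdpos : ∀ ψ : Cfsg.IrrCharacter G, 1 ≤ d ψ := fun ψ => by
    obtain ⟨k, hk, hk'⟩ := irr_one_pos ψ.2
    rw [hd, Nat.cast_inj] at hk'; omega
  let Tc := (Finset.univ : Finset (Cfsg.IrrCharacter G)) \ T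
  have hconst : ∀ ψ ∈ Tc, ∀ v ∈ H, v ≠ 1 → (ψ : G → ℂ) v = (ψ : G → ℂ) u := by
    intro ψ hψ v hv hv1
    by_contra hne
    obtain ⟨χ, hχ, hψχ⟩ := (h852 _ ψ.2).2 ⟨v, hv, u, hu, hv1, hu1, hne⟩
    have hmem : (⟨χ, hχ.1⟩ : Cfsg.IrrCharacter L) ∈ SL := Finset.mem_filter.2 ⟨Finset.mem_univ _, hχ.2⟩
    refine (Finset.mem_sdiff.1 hψ).2 (Finset.mem_image.2 ⟨_, hmem, ?_⟩)
    have hneg : ∀ φ φ' : Cfsg.IrrCharacter G, (φ : G → ℂ) ≠ -(φ' : G → ℂ) := fun φ φ' e' => by
      have h1 := congrFun e' 1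
      rw [Pi.neg_apply, hd, hd] at h1
      have h2 : ((d φ + d φ' : ℕ) : ℂ) = 0 := by push_cast; linear_combination h1
      rw [Nat.cast_eq_zero] at h2
      have := hdpos φ
      omega
    rcases hι _ hmem with h | h <;> rcases hψχ with h' | h' <;> change star χ = _ at h
    · exact Subtype.ext (h'.trans h).symm
    · exact absurd (h'.trans (congrArg Neg.neg h)) (hneg _ _)
    · exact absurd (h'.trans h) (hneg _ _)
    · exact Subtype.ext (h'.trans ((congrArg Neg.neg h).trans (neg_neg _))).symm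
  -- column orthogonality at the kernel element
  have hsqsum : ∑ ξ : Cfsg.IrrCharacter L, (ξ : L → ℂ) uL * conj ((ξ : L → ℂ) uL) =
      ∑ ψ : Cfsg.IrrCharacter G, (ψ : G → ℂ) u * conj ((ψ : G → ℂ) u) := by
    rw [second_orthogonality, second_orthogonality, if_pos (IsConj.refl _), if_pos (IsConj.refl _)]
    refine congrArg Nat.cast ?_
    have hle : Subgroup.centralizer ({u} : Set G) ≤ L :=
      (centralizer_le_kernel hc hu hu1).trans hHL
    rw [← Nat.card_congr (Subgroup.subgroupOfEquivOfLe hle).toEquiv]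
    refine congrArg (fun X : Subgroup L => Nat.card X) ?_
    ext x
    rw [Subgroup.mem_subgroupOf, Subgroup.mem_centralizer_singleton_iff,
      Subgroup.mem_centralizer_singleton_iff]
    exact ⟨fun h' => congrArg Subtype.val h', fun h' => Subtype.ext h'⟩
  have hone : ∑ ξ ∈ SL, (dL ξ : ℂ) * (ξ : L → ℂ) uL = -(e : ℂ) := by
    have h1 := hsplit fun ξ => (dL ξ : ℂ) * (ξ : L → ℂ) uL
    have h0 : ∀ ξ ∈ Lin, (dL ξ : ℂ) * (ξ : L → ℂ) uL = 1 := fun ξ hξ => by
      rw [← hdL, hLin1 ξ hξ, hLinval ξ hξ uL hu, one_mul]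
    rw [Finset.sum_congr (s₁ := Lin) rfl h0] at h1
    rw [Finset.sum_const, hLin, nsmul_eq_mul, mul_one] at h1
    have h2 := second_orthogonality uL (1 : L)
    rw [if_neg (fun h' => huL1 (isConj_one_left.1 h'))] at h2
    rw [show ∑ ξ : Cfsg.IrrCharacter L, (dL ξ : ℂ) * (ξ : L → ℂ) uL = 0 from by
      rw [← h2]
      exact Finset.sum_congr rfl fun ξ _ => by rw [hdL, Complex.conj_natCast, mul_comm]] at h1
    linear_combination h1
  have hone' : ∑ ξ ∈ SL, (dL ξ : ℂ) * conj ((ξ : L → ℂ) uL) = -(e : ℂ) := by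
    have h1 := congrArg conj hone
    rw [map_sum, map_neg, Complex.conj_natCast] at h1
    rw [← h1]
    exact Finset.sum_congr rfl fun ξ _ => by rw [map_mul, Complex.conj_natCast]
  have he0 : (e : ℂ) ≠ 0 := Nat.cast_ne_zero.2 (by omega)
  have hTval : ∀ ξ ∈ SL, (ι ξ : G → ℂ) u * conj ((ι ξ : G → ℂ) u) =
      (ξ : L → ℂ) uL * conj ((ξ : L → ℂ) uL) +
        (m : ℂ) / (e : ℂ) * ((dL ξ : ℂ) * (ξ : L → ℂ) uL + (dL ξ : ℂ) * conj ((ξ : L → ℂ) uL)) +
        (m : ℂ) ^ 2 / (e : ℂ) ^ 2 * (dL ξ : ℂ) ^ 2 := by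
    intro ξ hξ
    have h1 := hm _ (hmemS ξ hξ) uL hu huL1
    rw [hidx, hdL] at h1
    have h2 : star (ξ : L → ℂ) u = (ξ : L → ℂ) uL + (m : ℂ) * (dL ξ : ℂ) / (e : ℂ) := by
      linear_combination h1
    have h3 : (ι ξ : G → ℂ) u * conj ((ι ξ : G → ℂ) u) =
        star (ξ : L → ℂ) u * conj (star (ξ : L → ℂ) u) := by
      rcases hι ξ hξ with h | h <;> simp [h]
    rw [h3, h2, map_add, map_div₀, map_mul, map_intCast, Complex.conj_natCast,
      Complex.conj_natCast]
    field_simp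
    ring
  have hLinsq : ∑ ξ ∈ Lin, (ξ : L → ℂ) uL * conj ((ξ : L → ℂ) uL) = (e : ℂ) := by
    rw [Finset.sum_congr rfl (g := fun _ => (1 : ℂ)) fun ξ hξ => by
      rw [hLinval ξ hξ uL hu, map_one, one_mul], Finset.sum_const, hLin, nsmul_eq_mul, mul_one]
  choose! c k hcu hck hk0 using fun ψ (hψ : ψ ∈ Tc) =>
    const_value hc ψ.2 hu hu1 (hd ψ) (hconst ψ hψ)
  have hcsum : (∑ ψ ∈ Tc, c ψ ^ 2) * (e : ℤ) = e * e + 2 * m * e - m ^ 2 * ((h : ℤ) - 1) := by
    have h1 : ∑ ψ ∈ Tc, ((c ψ : ℂ)) ^ 2 + ∑ ψ ∈ T, (ψ : G → ℂ) u * conj ((ψ : G → ℂ) u) =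
        ∑ ξ : Cfsg.IrrCharacter L, (ξ : L → ℂ) uL * conj ((ξ : L → ℂ) uL) := by
      rw [hsqsum, ← Finset.sum_sdiff (Finset.subset_univ T)]
      congr 1
      exact Finset.sum_congr rfl fun ψ hψ => by rw [hcu ψ hψ, map_intCast, sq]
    rw [← hsplit, hLinsq, Finset.sum_image hinj, Finset.sum_congr rfl hTval,
      Finset.sum_add_distrib, Finset.sum_add_distrib, ← Finset.mul_sum, Finset.sum_add_distrib,
      hone, hone', ← Finset.mul_sum, hSLsq] at h1
    have h2 : (((∑ ψ ∈ Tc, c ψ ^ 2) * (e : ℤ) : ℤ) : ℂ) =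
        ((e * e + 2 * m * e - m ^ 2 * ((h : ℤ) - 1) : ℤ) : ℂ) := by
      push_cast
      field_simp at h1
      linear_combination h1
    exact_mod_cast h2
  have hcle : ∑ ψ ∈ Tc, c ψ ^ 2 ≤ (e : ℤ) := by
    have h1 : (2 * e : ℤ) ≤ (h : ℤ) - 1 := by omega
    have h2 : m ≤ m ^ 2 := Int.le_self_sq m
    nlinarith
  -- the distinguished characters
  obtain ⟨St, hStirr, hSt1, hStu⟩ := steinberg hc
  obtain ⟨M, hMcard, hM⟩ := exists_family hc hodd' hL (by omega) s hs
  let st : Cfsg.IrrCharacter G := ⟨St, hStirr⟩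
  let B := insert (trivIrr G) (insert st M)
  have hstc : ∀ ψ ∈ B, ∀ v ∈ H, v ≠ 1 → (ψ : G → ℂ) v = (ψ : G → ℂ) u := by
    intro ψ hψ v hv hv1
    simp only [B, Finset.mem_insert] at hψ
    rcases hψ with rfl | rfl | hψ
    · simp [trivIrr_coe]
    · show St v = St u; rw [hStu v hv hv1, hStu u hu hu1]
    · rw [(hM ψ hψ).2.1 v hv hv1, (hM ψ hψ).2.1 u hu hu1]
  have hBT : B ⊆ Tc := fun ψ hψ => Finset.mem_sdiff.2 ⟨Finset.mem_univ _, fun hT => by
    obtain ⟨x, hx, hx1, hne⟩ := hTnonconst ψ hT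
    exact hne (hstc ψ hψ x hx hx1)⟩
  have hdM : ∀ φ ∈ M, d φ = h + 1 := fun φ hφ => by
    have h1 := (hM φ hφ).1
    rw [hd] at h1
    exact_mod_cast h1
  have hdst : d st = h := by
    have h1 := hd st
    rw [show (st : G → ℂ) 1 = (h : ℂ) from hSt1] at h1
    exact_mod_cast h1.symm
  have hdone : d (trivIrr G) = 1 := by
    have h1 := hd (trivIrr G)
    simp only [trivIrr_coe] at h1
    exact_mod_cast h1.symm
  have hstM : st ∉ M := fun h' => by
    have := hdM st h'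
    omega
  have honeM : trivIrr G ∉ insert st M := fun h' => by
    rcases Finset.mem_insert.1 h' with h' | h'
    · rw [← h'] at hdst; omega
    · have := hdM _ h'; omega
  have hB : ∀ f : Cfsg.IrrCharacter G → ℤ, ∑ ψ ∈ B, f ψ = f (trivIrr G) + (f st + ∑ φ ∈ M, f φ) :=
    fun f => by simp only [B, Finset.sum_insert honeM, Finset.sum_insert hstM]
  let R := Tc \ B
  have hRB : ∀ f : Cfsg.IrrCharacter G → ℤ, ∑ ψ ∈ Tc, f ψ = ∑ ψ ∈ R, f ψ + ∑ ψ ∈ B, f ψ :=
    fun f => (Finset.sum_sdiff hBT).symm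
  have hone_mem : trivIrr G ∈ Tc := hBT (Finset.mem_insert_self _ _)
  have hRc : ∑ ψ ∈ R, c ψ ^ 2 ≤ (s : ℤ) := by
    have h1 := hRB fun ψ => c ψ ^ 2
    simp only [hB] at h1
    have h2 : c (trivIrr G) = 1 := by
      have := hcu _ hone_mem
      simp only [trivIrr_coe] at this
      exact_mod_cast this.symm
    have h3 : ∀ φ ∈ M, c φ ^ 2 = 1 := fun φ hφ => by
      have := hcu φ (hBT (Finset.mem_insert_of_mem (Finset.mem_insert_of_mem hφ)))
      rw [(hM φ hφ).2.1 u hu hu1] at this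
      have h4 : c φ = 1 := by exact_mod_cast this.symm
      rw [h4, one_pow]
    rw [h2, one_pow, Finset.sum_congr rfl h3, Finset.sum_const, hMcard, nsmul_eq_mul, mul_one] at h1
    have h4 := sq_nonneg (c st)
    omega
  have hRcard : s ≤ R.card := by
    have h1 := card_irr_lt hc hodd' hlt hL
    rw [Nat.card_eq_fintype_card, Nat.card_eq_fintype_card, ← Finset.card_univ,
      ← Finset.card_univ] at h1
    have h2 : (Finset.univ : Finset (Cfsg.IrrCharacter L)).card = SL.card + Lin.card :=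
      (Finset.card_filter_add_card_filter_not _).symm
    have h3 : Tc.card + T.card = (Finset.univ : Finset (Cfsg.IrrCharacter G)).card :=
      Finset.card_sdiff_add_card_eq_card (Finset.subset_univ T)
    have h4 : R.card + B.card = Tc.card := Finset.card_sdiff_add_card_eq_card hBT
    have h5 : B.card = s + 1 + 1 := by
      simp only [B, Finset.card_insert_of_notMem honeM, Finset.card_insert_of_notMem hstM, hMcard]
    omega
  have hRd : ∀ ψ ∈ R, (h : ℤ) ^ 2 - (2 * h - 1) * c ψ ^ 2 ≤ (d ψ : ℤ) ^ 2 := by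
    intro ψ hψ
    have hψT := (Finset.mem_sdiff.1 hψ).1
    have hk := hck ψ hψT
    have hkne : k ψ ≠ 0 := fun h' => (Finset.mem_sdiff.1 hψ).2 (by
      rw [show ψ = trivIrr G from Subtype.ext (hk0 ψ hψT h')]
      exact Finset.mem_insert_self _ _)
    have hcs : c ψ ^ 2 ≤ (s : ℤ) := le_trans
      (Finset.single_le_sum (f := fun φ => c φ ^ 2) (fun φ _ => sq_nonneg _) hψ) hRc
    have hc2 : c ψ ≤ c ψ ^ 2 := Int.le_self_sq _
    have hc3 : -c ψ ≤ c ψ ^ 2 := by have := Int.le_self_sq (-c ψ); rwa [neg_sq] at this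
    have hd1 : (1 : ℤ) ≤ d ψ := by exact_mod_cast hdpos ψ
    have hhs : (s : ℤ) < h := by omega
    have hk1 : 1 ≤ k ψ := by
      by_contra hlt1
      have : k ψ ≤ -1 := by omega
      nlinarith
    have hd2 : (h : ℤ) - c ψ ^ 2 ≤ (d ψ : ℤ) := by nlinarith
    have hd3 : 0 ≤ (h : ℤ) - c ψ ^ 2 := by omega
    have hc4 : c ψ ^ 2 ≤ (c ψ ^ 2) ^ 2 := Int.le_self_sq _
    nlinarith
  have hTcd : 1 + (h : ℤ) ^ 2 + s * ((h : ℤ) + 1) ^ 2 + s * ((h : ℤ) - 1) ^ 2 ≤
      ∑ ψ ∈ Tc, (d ψ : ℤ) ^ 2 := by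
    rw [hRB fun ψ => (d ψ : ℤ) ^ 2, hB, hdone, hdst,
      Finset.sum_congr (s₁ := M) rfl (g := fun _ => ((h : ℤ) + 1) ^ 2) fun φ hφ => by
        rw [hdM φ hφ]; push_cast; rfl,
      Finset.sum_const, hMcard, nsmul_eq_mul]
    have h1 := Finset.sum_le_sum hRd
    rw [Finset.sum_sub_distrib, Finset.sum_const, nsmul_eq_mul, ← Finset.mul_sum] at h1
    have h2 : (s : ℤ) * (h : ℤ) ^ 2 ≤ (R.card : ℤ) * (h : ℤ) ^ 2 :=
      mul_le_mul_of_nonneg_right (by exact_mod_cast hRcard) (sq_nonneg _)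
    have h3 : (2 * (h : ℤ) - 1) * ∑ ψ ∈ R, c ψ ^ 2 ≤ (2 * (h : ℤ) - 1) * s :=
      mul_le_mul_of_nonneg_left hRc (by omega)
    push_cast
    nlinarith
  -- degrees of the exceptional characters
  have hdegT : ∀ ξ ∈ SL, (e : ℂ) ^ 2 * (d (ι ξ) : ℂ) ^ 2 = (dL ξ : ℂ) ^ 2 * (d (ι lam) : ℂ) ^ 2 := by
    intro ξ hξ
    have hsq : ∀ η ∈ SL, (d (ι η) : ℂ) ^ 2 = star (η : L → ℂ) 1 ^ 2 := fun η hη => by
      rw [← hd]; rcases hι η hη with h' | h' <;> simp [h']
    have h1 := congrFun (TIFrobenius.star_comb hstar hext (hmemS ξ hξ) (hmemS lam hlam)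
      (hdL ξ) (hdL lam)) 1
    rw [Characters.indFun_one] at h1
    simp only [Pi.sub_apply, Pi.smul_apply, smul_eq_mul, hdL ξ, hdL lam, hlamd] at h1
    rw [mul_comm (dL ξ : ℂ) (e : ℂ), sub_self, mul_zero] at h1
    rw [hsq ξ hξ, hsq lam hlam]
    linear_combination (-((e : ℂ) * star (ξ : L → ℂ) 1 + (dL ξ : ℂ) * star (lam : L → ℂ) 1)) * h1
  have hTd : (e : ℤ) * ∑ ψ ∈ T, (d ψ : ℤ) ^ 2 = (d (ι lam) : ℤ) ^ 2 * ((h : ℤ) - 1) := by
    have h1 : (e : ℂ) * ((e : ℂ) * ∑ ψ ∈ T, (d ψ : ℂ) ^ 2) =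
        (e : ℂ) * ((d (ι lam) : ℂ) ^ 2 * ((h : ℂ) - 1)) := by
      rw [← mul_assoc, ← sq, Finset.sum_image hinj, Finset.mul_sum, Finset.sum_congr rfl hdegT,
        ← Finset.sum_mul, hSLsq]
      ring
    have h2 := mul_left_cancel₀ he0 h1
    have h3 : (((e : ℤ) * ∑ ψ ∈ T, (d ψ : ℤ) ^ 2 : ℤ) : ℂ) =
        (((d (ι lam) : ℤ) ^ 2 * ((h : ℤ) - 1) : ℤ) : ℂ) := by push_cast; exact h2
    exact_mod_cast h3
  have htotal : ∑ ψ ∈ Tc, (d ψ : ℤ) ^ 2 + ∑ ψ ∈ T, (d ψ : ℤ) ^ 2 =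
      ((h : ℤ) + 1) * (h * e) := by
    rw [Finset.sum_sdiff (Finset.subset_univ T)]
    have h1 : ((∑ ψ : Cfsg.IrrCharacter G, (d ψ : ℤ) ^ 2 : ℤ) : ℂ) =
        ((((h : ℤ) + 1) * (h * e) : ℤ) : ℂ) := by
      push_cast
      rw [Finset.sum_congr rfl (g := fun ψ : Cfsg.IrrCharacter G => ((ψ : G → ℂ) 1) ^ 2)
        fun ψ _ => by rw [hd], sum_degree_sq, hGcard]
      push_cast; ring
    exact_mod_cast h1
  have hes : (e : ℤ) = 2 * s + 1 := by omega
  have hxle : (d (ι lam) : ℤ) ^ 2 ≤ (e : ℤ) ^ 2 := by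
    have h1 : ∑ ψ ∈ T, (d ψ : ℤ) ^ 2 ≤ (e : ℤ) * ((h : ℤ) - 1) := by
      rw [hes] at htotal ⊢; nlinarith
    have h2 : (d (ι lam) : ℤ) ^ 2 * ((h : ℤ) - 1) ≤ (e : ℤ) ^ 2 * ((h : ℤ) - 1) := by
      rw [← hTd, sq, mul_assoc]
      exact mul_le_mul_of_nonneg_left h1 (by omega)
    exact le_of_mul_le_mul_right h2 (by omega)
  -- the square of an exceptional character
  set χ := (ι lam : G → ℂ) with hχdef
  have hχchar : Cfsg.IsCharacter G χ := irr_isCharacter _
  set f : G → ℂ := χ * (fun g => conj (χ g)) with hfdef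
  have hf : Cfsg.IsCharacter G f := isCharacter_mul hχchar (Characters.isCharacter_conj hχchar)
  choose A hA using fun ψ : Cfsg.IrrCharacter G => classInner_char_nat hf (irr_isCharacter ψ)
  have hdsq : d (ι lam) ^ 2 = ∑ ψ : Cfsg.IrrCharacter G, A ψ * d ψ := by
    have h1 := congrFun (classFun_eq_sum (char_isClassFunction hf)) 1
    simp only [Finset.sum_apply, Pi.smul_apply, smul_eq_mul, hA, hd] at h1
    have h2 : f 1 = (d (ι lam) : ℂ) ^ 2 := by
      show χ 1 * conj (χ 1) = _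
      rw [hχdef, hd, Complex.conj_natCast, sq]
    rw [h2] at h1
    exact_mod_cast h1
  have hA1 : 1 ≤ A (trivIrr G) := by
    have h1 := hA (trivIrr G)
    have h2 : Cfsg.classInner f (trivIrr G : G → ℂ) = Cfsg.classInner χ χ := by
      simp [classInner_def, hfdef, trivIrr_coe]
    rw [h2, hχdef, classInner_isIrr_self (ι lam).2] at h1
    have h3 : A (trivIrr G) = 1 := by exact_mod_cast h1.symm
    omega
  set r : L → ℂ := fun x => χ x with hrdef
  have hrchar : Cfsg.IsCharacter L r := isCharacter_restrict L hχchar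
  obtain ⟨θ, hθ, hθne⟩ : ∃ θ ∈ SL, Cfsg.classInner r (θ : L → ℂ) ≠ 0 := by
    by_contra hno
    push Not at hno
    obtain ⟨x, hx, hx1, hne⟩ := hTnonconst _ (Finset.mem_image_of_mem ι hlam)
    apply hne
    have hexp := classFun_eq_sum (char_isClassFunction hrchar)
    have key : ∀ v : L, (v : G) ∈ H → r v = r 1 := by
      intro v hv
      have h1 := congrFun hexp v
      have h2 := congrFun hexp 1
      simp only [Finset.sum_apply, Pi.smul_apply, smul_eq_mul] at h1 h2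
      rw [h1, h2]
      refine Finset.sum_congr rfl fun η _ => ?_
      by_cases hη : η ∈ SL
      · rw [hno η hη, zero_mul, zero_mul]
      · have hη' : η ∈ Lin := by
          simp only [SL, Lin, Finset.mem_filter, Finset.mem_univ, true_and] at hη ⊢; exact hη
        rw [hLinval η hη' v hv, hLinval η hη' 1 H.one_mem]
    exact (key ⟨x, hHL hx⟩ hx).trans (key uL hu).symm
  have hAM : ∀ φ ∈ M, 1 ≤ A φ := by
    intro φ hφ
    obtain ⟨-, -, μ, hμ, hμH, hφμ⟩ := hM φ hφ
    have hμr : Cfsg.IsCharacter L (μ * r) := isCharacter_mul hμ hrchar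
    have h1 : Cfsg.classInner f (φ : G → ℂ) = conj (Cfsg.classInner (μ * r) r) := by
      rw [classInner_conj_symm (φ : G → ℂ) f, hφμ,
        frobenius_reciprocity L μ (char_isClassFunction hf)]
      congr 1
      simp [classInner_def, hfdef, hrdef, mul_assoc, mul_comm, mul_left_comm]
    choose p hp using fun η : Cfsg.IrrCharacter L => classInner_char_nat hμr (irr_isCharacter η)
    choose q hq using fun η : Cfsg.IrrCharacter L => classInner_char_nat hrchar (irr_isCharacter η)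
    have h2 : Cfsg.classInner (μ * r) r = ((∑ η, p η * q η : ℕ) : ℂ) := by
      rw [classInner_eq_sum r (char_isClassFunction hμr)]
      push_cast
      refine Finset.sum_congr rfl fun η _ => ?_
      rw [hp, classInner_conj_symm r (η : L → ℂ), hq, Complex.conj_natCast]
    have h3 : Cfsg.classInner (μ * r) (θ : L → ℂ) = Cfsg.classInner r (θ : L → ℂ) := by
      simp only [classInner_def]
      congr 1
      refine Finset.sum_congr rfl fun x _ => ?_
      by_cases hx : (x : G) ∈ H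
      · rw [Pi.mul_apply, hμH x hx, one_mul]
      · rw [TIFrobenius.vanish_off hCK θ.2 (Finset.mem_filter.1 hθ).2 hx, map_zero, mul_zero,
          mul_zero]
    have h4 : 1 ≤ p θ * q θ := by
      have hq0 : q θ ≠ 0 := fun h' => hθne (by rw [hq, h', Nat.cast_zero])
      have hpq : p θ = q θ := by
        rw [hp, hq] at h3; exact_mod_cast h3
      rw [hpq]
      exact Nat.one_le_iff_ne_zero.2 (mul_ne_zero hq0 hq0)
    rw [hA, h2, Complex.conj_natCast] at h1
    rw [show A φ = ∑ η, p η * q η from by exact_mod_cast h1]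
    exact le_trans h4 (Finset.single_le_sum (f := fun η => p η * q η) (fun _ _ => Nat.zero_le _)
      (Finset.mem_univ θ))
  have hge : 1 + s * (h + 1) ≤ d (ι lam) ^ 2 := by
    rw [hdsq]
    refine le_trans ?_ (Finset.sum_le_sum_of_subset (f := fun ψ => A ψ * d ψ)
      (Finset.subset_univ (insert (trivIrr G) M)))
    rw [Finset.sum_insert fun h' => honeM (Finset.mem_insert_of_mem h'), hdone, mul_one]
    refine Nat.add_le_add hA1 ?_
    rw [← hMcard, ← smul_eq_mul, ← Finset.sum_const]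
    refine Finset.sum_le_sum fun φ hφ => ?_
    rw [hdM φ hφ]
    exact Nat.le_mul_of_pos_left _ (hAM φ hφ)
  have hge' : 1 + (s : ℤ) * ((h : ℤ) + 1) ≤ (d (ι lam) : ℤ) ^ 2 := by exact_mod_cast hge
  have hh2 : 4 * (s : ℤ) + 4 ≤ h := by omega
  rw [hes] at hxle
  nlinarith

end Cfsg.Agent.CharTheory.Zassenhaus
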