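import Mathlib
import Cfsg.Agent.Lib.CharTheory.Zassenhaus.Basic
import Cfsg.Agent.Lib.Characters.Frobenius
import Cfsg.Agent.Lib.Perm.RegularNormal

/-!
A non-trivial normal subgroup of a Zassenhaus group is a Zassenhaus group with the same kernel.
-/

set_option autoImplicit false
set_option linter.unusedSectionVars false

namespace Cfsg.Agent.CharTheory.Zassenhaus

open Cfsg.Agent.CharactersDeep

universe u v

variable {G : Type u} {Ω : Type v} [Group G] [MulAction G Ω] [Finite G] [Fintype Ω] {a b : Ω}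
  {H : Subgroup G}

/-- There is no normal subgroup acting regularly. -/
theorem no_regular (hZ : Cfsg.IsZassenhausGroup G Ω) (X : Subgroup G)
    (hn : ∀ g : G, ∀ x ∈ X, g * x * g⁻¹ ∈ X) (ht : ∀ c d : Ω, ∃ x ∈ X, x • c = d)
    (hf : ∀ x ∈ X, ∀ c : Ω, x • c = c → x = 1) : False := by
  haveI : MulAction.IsPretransitive X Ω := ⟨fun c d => by
    obtain ⟨x, hx, e⟩ := ht c d
    exact ⟨⟨x, hx⟩, e⟩⟩
  obtain ⟨c, hc⟩ := hZ.2.2.2.2 X ⟨fun x hx g => hn g x hx⟩ inferInstance
  refine hc ((Subgroup.eq_bot_iff_forall _).2 fun x hx => Subtype.ext (hf x x.2 c hx))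

variable (hc : Config a b H) (M : Subgroup G) [hM : M.Normal] (hM1 : M ≠ ⊥)
include hc hM hM1

theorem normal_transitive (c d : Ω) : ∃ m ∈ M, m • c = d := by
  obtain ⟨x, hx, hx1⟩ := M.bot_or_exists_ne_one.resolve_left hM1
  have := hc.zass.1
  obtain ⟨q, hq⟩ : ∃ q : Ω, x • q ≠ q := by
    by_contra hne
    push Not at hne
    exact hx1 (eq_of_smul_eq_smul fun q : Ω => by rw [hne q, one_smul])
  rcases eq_or_ne c d with rfl | hcd
  · exact ⟨1, M.one_mem, one_smul G c⟩
  obtain ⟨g, hgq, hgx⟩ := Zassenhaus.two_trans hc.zass hq.symm hcd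
  refine ⟨g * x * g⁻¹, hM.conj_mem x hx g, ?_⟩
  rw [← hgq, mul_smul, mul_smul, inv_smul_smul, hgx]

theorem exists_normal_not_mem_H : ∃ x ∈ M, x • a = a ∧ x ∉ H := by
  by_contra hno
  push Not at hno
  let S : Subgroup M := MulAction.stabilizer M a
  have hfix : ∀ x ∈ M, ∀ c : Ω, x • c = c → x ≠ 1 → ∀ d : Ω, x • d = d → d = c := by
    intro x hx c hxc hx1 d hxd
    obtain ⟨m, hm, hmc⟩ := normal_transitive hc M hM1 a c
    have hy : m⁻¹ * x * m ∈ M := M.mul_mem (M.mul_mem (M.inv_mem hm) hx) hm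
    have hya : (m⁻¹ * x * m) • a = a := by rw [mul_smul, mul_smul, hmc, hxc, ← hmc, inv_smul_smul]
    have hy1 : m⁻¹ * x * m ≠ 1 := fun h => hx1 (by
      have h' : x = m * (m⁻¹ * x * m) * m⁻¹ := by group
      rw [h', h, mul_one, mul_inv_cancel])
    have hd := hc.fix _ (hno _ hy hya) hy1 (m⁻¹ • d) (by
      rw [mul_smul, mul_smul, smul_inv_smul, hxd])
    rw [← hmc, ← hd, smul_inv_smul]
  have hFrob : Cfsg.IsFrobeniusComplement S := by
    refine ⟨?_, ?_, ?_⟩
    · obtain ⟨c, hc'⟩ := hc.zass.2.2.2.2 M hM ⟨fun c d => by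
        obtain ⟨m, hm, e⟩ := normal_transitive hc M hM1 c d
        exact ⟨⟨m, hm⟩, e⟩⟩
      obtain ⟨x, hx, hx1⟩ := (Subgroup.bot_or_exists_ne_one _).resolve_left hc'
      obtain ⟨m, hm, hmc⟩ := normal_transitive hc M hM1 a c
      intro h0
      have hmem : (⟨m, hm⟩ : M)⁻¹ * x * ⟨m, hm⟩ ∈ S := by
        show (m⁻¹ * (x : G) * m) • a = a
        rw [mul_smul, mul_smul, hmc, show (x : G) • c = c from hx, ← hmc, inv_smul_smul]
      rw [h0, Subgroup.mem_bot] at hmem
      refine hx1 ?_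
      calc x = (⟨m, hm⟩ : M) * ((⟨m, hm⟩ : M)⁻¹ * x * ⟨m, hm⟩) * (⟨m, hm⟩ : M)⁻¹ := by group
        _ = 1 := by rw [hmem, mul_one, mul_inv_cancel]
    · intro h0
      obtain ⟨m, hm, e⟩ := normal_transitive hc M hM1 a b
      have h1 : (⟨m, hm⟩ : M) ∈ S := h0 ▸ Subgroup.mem_top _
      exact hc.ne ((show m • a = a from h1).symm.trans e)
    · intro g hg
      rw [Subgroup.eq_bot_iff_forall]
      rintro y ⟨hy, hy'⟩
      by_contra hy1
      apply hg
      replace hy' := (Characters.mem_conj_smul_iff g y).1 hy'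
      refine hfix y y.2 a hy (fun h => hy1 (Subtype.ext h)) ((g : G) • a) ?_
      have h2 : ((g : G)⁻¹ * (y : G) * (g : G)) • a = a := hy'
      rwa [mul_smul, mul_smul, inv_smul_eq_iff] at h2
  obtain ⟨K, hKset, -, hK⟩ := Characters.frobenius_kernel_theorem hFrob
  have hKmem : ∀ x : M, x ∈ K ↔ x = 1 ∨ ∀ c : Ω, (x : G) • c ≠ c := by
    intro x
    rw [← SetLike.mem_coe, hKset, Characters.mem_frobeniusKernel_iff]
    refine or_congr_right ⟨fun h c hxc => ?_, fun h g hg => h ((g : G) • a) ?_⟩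
    · obtain ⟨m, hm, e⟩ := normal_transitive hc M hM1 a c
      exact h ⟨m, hm⟩ (show (m⁻¹ * (x : G) * m) • a = a by
        rw [mul_smul, mul_smul, e, hxc, ← e, inv_smul_smul])
    · have h2 : ((g : G)⁻¹ * (x : G) * (g : G)) • a = a := hg
      rwa [mul_smul, mul_smul, inv_smul_eq_iff] at h2
  have hfree : ∀ u : M, u ∈ K → ∀ c : Ω, (u : G) • c = c → u = 1 := fun u hu c hcc =>
    ((hKmem u).1 hu).resolve_right fun h => h c hcc
  have hbij : Function.Bijective (fun u : K => ((u : M) : G) • a) := by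
    haveI := Fintype.ofFinite K
    haveI : MulAction.IsPretransitive M Ω := ⟨fun c d => by
      obtain ⟨m, hm, e⟩ := normal_transitive hc M hM1 c d
      exact ⟨⟨m, hm⟩, e⟩⟩
    refine (Fintype.bijective_iff_injective_and_card _).2 ⟨fun u v huv => ?_, ?_⟩
    · have h1 := hfree _ (K.mul_mem (K.inv_mem v.2) u.2) a (by
        rw [Subgroup.coe_mul, Subgroup.coe_inv, mul_smul]
        exact inv_smul_eq_iff.2 huv)
      exact Subtype.ext (inv_mul_eq_one.1 h1).symm
    · rw [← Nat.card_eq_fintype_card, ← Nat.card_eq_fintype_card, ← hK.index_eq_card,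
        MulAction.index_stabilizer_of_transitive]
  refine no_regular hc.zass (K.map M.subtype) ?_ ?_ ?_
  · rintro g _ ⟨x, hx, rfl⟩
    refine ⟨⟨g * (x : G) * g⁻¹, hM.conj_mem _ x.2 g⟩, ?_, rfl⟩
    rw [SetLike.mem_coe, hKmem]
    rcases (hKmem x).1 hx with h | h
    · exact Or.inl (Subtype.ext (by simp [h]))
    · refine Or.inr fun c hcc => h (g⁻¹ • c) ?_
      change (g * (x : G) * g⁻¹) • c = c at hcc
      rw [mul_smul, mul_smul] at hcc
      exact eq_inv_smul_iff.2 hcc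
  · intro c d
    obtain ⟨u, hu⟩ := hbij.2 c
    obtain ⟨v, hv⟩ := hbij.2 d
    refine ⟨((v : M) : G) * ((u : M) : G)⁻¹, ⟨(v : M) * (u : M)⁻¹, K.mul_mem v.2 (K.inv_mem u.2),
      rfl⟩, ?_⟩
    simp only at hu hv
    rw [mul_smul, ← hu, inv_smul_smul, hv]
  · rintro _ ⟨x, hx, rfl⟩ c hcc
    rw [hfree x hx c hcc, map_one]

theorem le_normal : H ≤ M ∧ ∃ y ∈ M, y ≠ 1 ∧ y • a = a ∧ y • b = b := by
  classical
  obtain ⟨x, hx, hxa, hxH⟩ := exists_normal_not_mem_H hc M hM1
  obtain ⟨c, hxc, hca⟩ : ∃ c : Ω, x • c = c ∧ c ≠ a := by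
    by_contra hno
    push Not at hno
    exact hxH (Zassenhaus.mem_of_fix_only hc.zass a H hc.le hc.card hc.fix hxa hno)
  have hx1 : x ≠ 1 := fun h => hxH (h ▸ H.one_mem)
  constructor
  · let f : H → H := fun u => ⟨(u : G) * (x * (u : G)⁻¹ * x⁻¹),
      H.mul_mem u.2 (conj_mem hc hxa (H.inv_mem u.2))⟩
    have hf : Function.Injective f := fun u v huv => by
      have h : (u : G) * (x * (u : G)⁻¹ * x⁻¹) = (v : G) * (x * (v : G)⁻¹ * x⁻¹) :=
        congrArg Subtype.val huv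
      have hw : x * ((v : G)⁻¹ * u) = ((v : G)⁻¹ * u) * x := by
        have h3 : (v : G)⁻¹ * ((u : G) * (x * (u : G)⁻¹ * x⁻¹)) * (x * u) =
            (v : G)⁻¹ * ((v : G) * (x * (v : G)⁻¹ * x⁻¹)) * (x * u) := by rw [h]
        simp only [mul_assoc, inv_mul_cancel_left, inv_mul_cancel, mul_one] at h3
        rw [mul_assoc]; exact h3.symm
      set w : G := (v : G)⁻¹ * u with hw'
      have hwH : w ∈ H := H.mul_mem (H.inv_mem v.2) u.2
      have hfix : x • (w • c) = w • c := by rw [← mul_smul, hw, mul_smul, hxc]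
      have hwa : w • a = a := hc.le hwH
      by_contra hne
      have hw1 : w ≠ 1 := fun e => hne (Subtype.ext (inv_mul_eq_one.1 e).symm)
      by_cases he : w • c = c
      · exact hca (hc.fix w hwH hw1 c he)
      · refine hx1 (Zassenhaus.eq_one_of_fix_three hc.zass (a := a) (b := c) (c := w • c) hca.symm
          (Ne.symm he) (fun e => hca ?_) hxa hxc hfix)
        exact smul_left_cancel w (e.symm.trans hwa.symm)
    intro u hu
    obtain ⟨v, hv⟩ := (Finite.injective_iff_surjective.1 hf) ⟨u, hu⟩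
    have hv' : (v : G) * (x * (v : G)⁻¹ * x⁻¹) = u := congrArg Subtype.val hv
    rw [← hv', show (v : G) * (x * (v : G)⁻¹ * x⁻¹) = ((v : G) * x * (v : G)⁻¹) * x⁻¹ by group]
    exact M.mul_mem (hM.conj_mem x hx v) (M.inv_mem hx)
  · obtain ⟨u, hu, hub⟩ := exists_mem_smul hc hca
    refine ⟨u⁻¹ * x * u, by simpa using hM.conj_mem x hx u⁻¹, fun h => hx1 ?_, ?_, ?_⟩
    · calc x = u * (u⁻¹ * x * u) * u⁻¹ := by group
        _ = 1 := by rw [h, mul_one, mul_inv_cancel]
    · rw [mul_smul, mul_smul, show u • a = a from hc.le hu, hxa, inv_smul_eq_iff,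
        show u • a = a from hc.le hu]
    · rw [mul_smul, mul_smul, hub, hxc, ← hub, inv_smul_smul]

/-- A non-trivial normal subgroup is again a Zassenhaus group, with the same kernel. -/
theorem config_normal : H ≤ M ∧ Config (G := M) a b (H.subgroupOf M) ∧
    Nat.card (two (G := M) a b) ∣ Nat.card (two (G := G) a b) := by
  classical
  obtain ⟨hHM, y, hy, hy1, hya, hyb⟩ := le_normal hc M hM1
  have htr : ∀ c d : Ω, c ≠ a → d ≠ a → ∃ m ∈ M, m • a = a ∧ m • c = d := by
    intro c d hca hda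
    obtain ⟨u, hu, hub⟩ := exists_mem_smul hc hca
    obtain ⟨v, hv, hvb⟩ := exists_mem_smul hc hda
    have hmem : v * u⁻¹ ∈ H := H.mul_mem hv (H.inv_mem hu)
    exact ⟨v * u⁻¹, hHM hmem, hc.le hmem, by rw [mul_smul, ← hub, inv_smul_smul, hvb]⟩
  refine ⟨hHM, ⟨⟨?_, ?_, ?_, ?_, ?_⟩, hc.ne, ?_, ?_, ?_⟩, ?_⟩
  · exact ⟨fun {g g'} h => Subtype.ext (hc.zass.1.eq_of_smul_eq_smul h)⟩
  · refine MulAction.is_two_pretransitive_iff.2 fun {p q r s} hpq hrs => ?_
    obtain ⟨m, hm, hmp⟩ := normal_transitive hc M hM1 p a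
    obtain ⟨m', hm', hmr⟩ := normal_transitive hc M hM1 r a
    obtain ⟨k, hk, hka, hkq⟩ := htr (m • q) (m' • s)
      (fun e => hpq (smul_left_cancel m (hmp.trans e.symm)))
      (fun e => hrs (smul_left_cancel m' (hmr.trans e.symm)))
    refine ⟨⟨m'⁻¹ * k * m, M.mul_mem (M.mul_mem (M.inv_mem hm') hk) hm⟩, ?_, ?_⟩
    · show (m'⁻¹ * k * m) • p = r
      rw [mul_smul, mul_smul, hmp, hka, ← hmr, inv_smul_smul]
    · show (m'⁻¹ * k * m) • q = s
      rw [mul_smul, mul_smul, hkq, inv_smul_smul]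
  · exact fun g p q r h1 h2 h3 e1 e2 e3 => Subtype.ext (hc.zass.2.2.1 _ p q r h1 h2 h3 e1 e2 e3)
  · exact ⟨⟨y, hy⟩, fun h => hy1 (congrArg Subtype.val h), a, b, hc.ne, hya, hyb⟩
  · intro X hX hXt
    by_contra hno
    push Not at hno
    have hXf : ∀ x ∈ X, ∀ c : Ω, (x : G) • c = c → x = 1 := fun x hx c e => by
      have h1 : (⟨x, hx⟩ : X) ∈ MulAction.stabilizer X c := e
      rw [hno c, Subgroup.mem_bot] at h1
      exact congrArg Subtype.val h1
    have hst : ∀ p q : Ω, p ≠ a → q ≠ a → ∃ g : M, g • a = a ∧ g • p = q := fun p q hp hq => by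
      obtain ⟨m, hm, h1, h2⟩ := htr p q hp hq
      exact ⟨⟨m, hm⟩, h1, h2⟩
    haveI : Nontrivial X := by
      obtain ⟨x, hx⟩ := hXt.exists_smul_eq a b
      exact nontrivial_of_ne x 1 fun h => hc.ne (by rw [← hx, h, one_smul])
    obtain ⟨-, -, -, hcomm, -⟩ := Perm.RegularNormal.elementaryAbelian_of_conj
      (N := X) fun n m hn hm => Perm.RegularNormal.exists_conj hXt hno hst n m hn hm
    refine no_regular hc.zass (X.map M.subtype) ?_ ?_ ?_
    · intro g
      -- the conjugate of `X` by `g`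
      let X' : Subgroup M := X.comap (MulAut.conjNormal g⁻¹ : MulAut M).toMonoidHom
      suffices h : X ≤ X' by
        rintro _ ⟨x, hx, rfl⟩
        have h1 : ∀ z : M, z ∈ X → (MulAut.conjNormal g⁻¹ : MulAut M) z ∈ X := fun z hz => h hz
        have hbij : Function.Bijective (fun z : X => (⟨_, h1 z z.2⟩ : X)) := by
          refine Finite.injective_iff_bijective.1 fun z w e => Subtype.ext ?_
          exact (MulAut.conjNormal g⁻¹ : MulAut M).injective (congrArg Subtype.val e)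
        obtain ⟨⟨z, hz⟩, hzx⟩ := hbij.2 ⟨x, hx⟩
        refine ⟨z, hz, ?_⟩
        have h2 : ((MulAut.conjNormal g⁻¹ : MulAut M) z : G) = (x : G) :=
          congrArg Subtype.val (congrArg Subtype.val hzx)
        rw [MulAut.conjNormal_apply, inv_inv] at h2
        show (z : G) = g * (x : G) * g⁻¹
        rw [← h2]; group
      by_contra hle
      have hmeet : ∀ z ∈ X, z ∈ X' → z = 1 := by
        intro z hz hz'
        by_contra hz1
        refine hle fun w hw => ?_
        by_cases hw1 : w = 1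
        · rw [hw1]; exact X'.one_mem
        obtain ⟨k, hk⟩ := Perm.RegularNormal.exists_conj hXt hno hst (⟨z, hz⟩ : X) ⟨w, hw⟩
          (fun e => hz1 (congrArg Subtype.val e)) (fun e => hw1 (congrArg Subtype.val e))
        rw [show w = k * z * k⁻¹ from hk]
        exact (hX.comap _).conj_mem z hz' k
      -- an element of the conjugate centralises `X`
      obtain ⟨x₁, hx₁⟩ := hXt.exists_smul_eq (g⁻¹ • a) (g⁻¹ • b)
      let y₀ : M := (MulAut.conjNormal g : MulAut M) x₁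
      have hy₀ : y₀ ∈ X' := by
        show (MulAut.conjNormal g⁻¹ : MulAut M) ((MulAut.conjNormal g : MulAut M) x₁) ∈ X
        rw [← MulAut.mul_apply, ← map_mul, inv_mul_cancel, map_one, MulAut.one_apply]
        exact x₁.2
      have hy₀b : (y₀ : G) • a = b := by
        show ((MulAut.conjNormal g : MulAut M) (x₁ : M) : G) • a = b
        rw [MulAut.conjNormal_apply, mul_smul, mul_smul]
        have h' : (((x₁ : M) : G)) • g⁻¹ • a = g⁻¹ • b := hx₁
        rw [h', smul_inv_smul]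
      obtain ⟨x₂, hx₂⟩ := hXt.exists_smul_eq a b
      have hcen : ∀ w ∈ X, w * y₀ = y₀ * w := by
        intro w hw
        have h1 : w * y₀ * w⁻¹ * y₀⁻¹ ∈ X := by
          rw [show w * y₀ * w⁻¹ * y₀⁻¹ = w * (y₀ * w⁻¹ * y₀⁻¹) by group]
          exact X.mul_mem hw (hX.conj_mem _ (X.inv_mem hw) y₀)
        have h2 : w * y₀ * w⁻¹ * y₀⁻¹ ∈ X' :=
          X'.mul_mem ((hX.comap _).conj_mem _ hy₀ w) (X'.inv_mem hy₀)
        have h3 := hmeet _ h1 h2
        rw [mul_inv_eq_one, mul_inv_eq_iff_eq_mul] at h3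
        exact h3
      have hdiff : ((x₂ : M) : G)⁻¹ * y₀ = 1 := by
        refine (hc.zass.1.eq_of_smul_eq_smul fun d : Ω => ?_)
        obtain ⟨w, hw⟩ := hXt.exists_smul_eq a d
        have hw' : ((w : M) : G) • a = d := hw
        rw [one_smul, ← hw', ← mul_smul]
        have e1 : ((x₂ : M))⁻¹ * y₀ * w = (w : M) * ((x₂ : M)⁻¹ * y₀) := by
          have e2 : (x₂ : M)⁻¹ * w = w * (x₂ : M)⁻¹ :=
            congrArg Subtype.val (hcomm.is_comm.comm x₂⁻¹ w)
          rw [mul_assoc, ← hcen _ w.2, ← mul_assoc, e2, mul_assoc]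
        have e1' := congrArg Subtype.val e1
        simp only [Subgroup.coe_mul, Subgroup.coe_inv] at e1'
        rw [e1', mul_smul, mul_smul, hy₀b]
        have h' : ((x₂ : M) : G)⁻¹ • b = a := inv_smul_eq_iff.2 (show b = ((x₂ : M) : G) • a from hx₂.symm)
        rw [h']
      have hy₁ : y₀ = 1 := by
        refine hmeet _ ?_ hy₀
        rw [show y₀ = (x₂ : M) from Subtype.ext (inv_mul_eq_one.1 hdiff).symm]
        exact x₂.2
      exact hc.ne (by rw [← hy₀b, hy₁, OneMemClass.coe_one, one_smul])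
    · intro p q
      obtain ⟨x, hx⟩ := hXt.exists_smul_eq p q
      exact ⟨((x : M) : G), ⟨(x : M), x.2, rfl⟩, hx⟩
    · rintro _ ⟨x, hx, rfl⟩ p e
      rw [hXf x hx p e, map_one]
  · exact fun u hu => hc.le (show (u : G) ∈ H from hu)
  · rw [← hc.card]
    exact congrArg (· + 1) (Nat.card_congr (Subgroup.subgroupOfEquivOfLe hHM).toEquiv)
  · exact fun u hu hu1 c e => hc.fix u hu (fun h => hu1 (Subtype.ext h)) c e
  · exact Subgroup.card_dvd_of_injective (((M.subtype.comp (two (G := M) a b).subtype).codRestrict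
      (two (G := G) a b) fun g => g.2)) fun g h e => Subtype.ext (Subtype.ext
        (congrArg (fun z : two (G := G) a b => (z : G)) e))

end Cfsg.Agent.CharTheory.Zassenhaus
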