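import Mathlib
import Cfsg.Agent.Lib.CharTheory.Zassenhaus.Feit
import Cfsg.Agent.Lib.CharTheory.Zassenhaus.Reduction
import Cfsg.Agent.OddChar.Coherence.SibleyMain

/-!
Feit's inequality for Zassenhaus groups with two-point stabilizers of odd order.
-/

set_option autoImplicit false
set_option linter.unusedSectionVars false

namespace Cfsg.Agent.CharTheory.Zassenhaus

open Cfsg.Agent.CharactersDeep
open Cfsg.Agent.OddChar.Coherence

universe u v

/-- The conclusion of Feit's theorem for a kernel `H` and a two-point stabilizer of order `e`. -/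
def FeitBound {G : Type u} [Group G] (H : Subgroup G) (e : ℕ) : Prop :=
  Nat.card H - 1 ≤ 2 * e ∨
    (IsPGroup 2 H ∧ (∃ u v : H, u * v ≠ v * u) ∧ (commutator H).index ≤ 4 * e ^ 2 + 1)

theorem index_commutator_congr {A B : Type*} [Group A] [Group B] (eqv : A ≃* B) :
    (commutator A).index = (commutator B).index := by
  have hmap : (commutator A).map (eqv : A →* B) = commutator B := by
    rw [commutator_def, commutator_def, Subgroup.map_commutator,
      Subgroup.map_top_of_surjective _ eqv.surjective]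
  rw [← hmap]
  exact (Subgroup.index_map_of_bijective eqv.bijective _).symm

theorem feit_simple {G : Type u} {Ω : Type v} [Group G] [Fintype G] [MulAction G Ω] [Fintype Ω]
    {a b : Ω} {H : Subgroup G} (hc : Config a b H) [IsSimpleGroup G]
    (hodd : Odd (Nat.card (two (G := G) a b))) : FeitBound H (Nat.card (two (G := G) a b)) := by
  classical
  by_cases hsmall : Nat.card H - 1 ≤ 2 * Nat.card (two (G := G) a b)
  · exact Or.inl hsmall
  push Not at hsmall
  set e := Nat.card (two (G := G) a b) with he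
  set L := Subgroup.normalizer (H : Set G) with hLdef
  have hL : L = MulAction.stabilizer G a :=
    Zassenhaus.normalizer_kernel hc.zass a H hc.le hc.card hc.fix
  have hHL : H ≤ L := Subgroup.le_normalizer
  set K := H.subgroupOf L with hK
  haveI : K.Normal := Subgroup.normal_in_normalizer
  let eqv : K ≃* H := Subgroup.subgroupOfEquivOfLe hHL
  have hKcard : Nat.card K = Nat.card H := Nat.card_congr eqv.toEquiv
  have hLcard : Nat.card L = Nat.card H * e := by rw [hL]; exact card_stabilizer hc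
  have hidx : K.index = e := by
    have h1 := K.index_mul_card
    rw [hKcard, hLcard, mul_comm (Nat.card H) e] at h1
    exact Nat.eq_of_mul_eq_mul_right Nat.card_pos h1
  have he2 : 2 ≤ e := by
    by_contra h
    have h1 : e = 1 := by obtain ⟨r, hr⟩ := hodd; omega
    exact Zassenhaus.two_point_ne_bot hc.zass hc.ne (Subgroup.card_eq_one.1 h1)
  have hC : ∀ k ∈ H, k ≠ 1 → Subgroup.centralizer ({k} : Set G) ≤ H := fun k hk hk1 =>
    centralizer_le_kernel hc hk hk1
  have hCK := Sibley.cent_transfer H L hC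
  have hTI : Cfsg.IsTISubset (H : Set G) := fun g hg k hk hgk =>
    Zassenhaus.kernel_TI a H hc.le hc.fix (hL ▸ hg) hk hgk
  have hH1 : H ≠ ⊥ := H_ne_bot hc
  have hK1 : K ≠ ⊥ := fun h => by
    rw [h, Subgroup.card_bot] at hKcard; omega
  have hK2 : K ≠ ⊤ := fun h => by
    rw [h, Subgroup.index_top] at hidx; omega
  have hlt : H < L := lt_of_le_not_ge hHL fun h => hK2 (Subgroup.subgroupOf_eq_top.2 h)
  have hnilK := Frobenius.nilpotent K hCK hK2
  have hnil : Group.IsNilpotent H := Group.nilpotent_of_mulEquiv eqv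
  have hne : Nat.card K ≠ K.index + 1 := by rw [hKcard, hidx]; omega
  have hcoh : ∀ {σ : (L → ℂ) → (G → ℂ)}, Cfsg.IsLinearIsometryOn (Cfsg.zspan (TI.nontrivOn L K)) σ →
      (∀ α ∈ Cfsg.zspanOn (TI.nontrivOn L K) ({1}ᶜ : Set L), σ α = Cfsg.indFun L α) → False :=
    fun {σ} h1 h2 => not_coherent hc hodd hsmall hnil hLdef σ h1 h2
  obtain ⟨hτ, hτ1⟩ := TI.ind_isometry L K hCK (Sibley.ti_transfer H hTI) (T := TI.nontrivOn L K)
    subset_rfl
  rcases Frobenius.feit K hCK hK1 hK2 hne hτ hτ1 with ⟨-, σ, h1, h2⟩ | ⟨p, hp, ⟨r, hr⟩, hnc, hbd⟩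
  · exact (hcoh h1 h2).elim
  by_cases hp2 : p = 2
  · subst hp2
    refine Or.inr ⟨IsPGroup.of_card (n := r) (by rw [← hKcard, hr]), ?_, ?_⟩
    · by_contra hall
      push Not at hall
      exact hnc ⟨⟨fun x y => eqv.injective (by rw [map_mul, map_mul]; exact hall _ _)⟩⟩
    · rw [← index_commutator_congr eqv, ← hidx]
      exact hbd
  rcases Sibley.feit_sibley H hC hH1 hnil hTI hlt with ⟨-, h, -⟩ | ⟨h, -⟩ | ⟨-, σ, h1, h2⟩
  · exact absurd (hKcard.trans h) hne
  · exfalso
    have h2 : 2 ∣ p ^ r := by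
      rw [← hr, hKcard, h]
      refine dvd_pow_self 2 fun h0 => ?_
      rw [h0, pow_zero] at h
      omega
    exact hp2 ((Nat.prime_dvd_prime_iff_eq Nat.prime_two hp).1
      (Nat.prime_two.dvd_of_dvd_pow h2)).symm
  · exact (hcoh h1 h2).elim

theorem feit_all (n : ℕ) : ∀ (G : Type u) [Group G] [Fintype G] (Ω : Type v) [MulAction G Ω]
    [Fintype Ω] (a b : Ω) (H : Subgroup G), Nat.card G = n → Config a b H →
    Odd (Nat.card (two (G := G) a b)) → FeitBound H (Nat.card (two (G := G) a b)) := by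
  induction n using Nat.strong_induction_on with
  | _ n ih =>
    intro G _ _ Ω _ _ a b H hn hc hodd
    classical
    obtain ⟨g, g', hgg⟩ := not_commutative hc
    haveI : Nontrivial G := nontrivial_of_ne (g * g') (g' * g) hgg
    by_cases hsimp : ∀ M : Subgroup G, M.Normal → M = ⊥ ∨ M = ⊤
    · haveI : IsSimpleGroup G := { eq_bot_or_eq_top_of_normal := hsimp }
      exact feit_simple hc hodd
    push Not at hsimp
    obtain ⟨M, hM, hM1, hMt⟩ := hsimp
    haveI := hM
    obtain ⟨hHM, hcM, hdvd⟩ := config_normal hc M hM1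
    haveI := Fintype.ofFinite M
    have hlt : Nat.card M < n := by
      rw [← hn]
      refine lt_of_le_of_ne (Subgroup.card_le_card_group M) fun h => hMt (M.eq_top_of_card_eq h)
    have hrec := ih _ hlt M Ω a b (H.subgroupOf M) rfl hcM (hodd.of_dvd_nat hdvd)
    let eqv : H.subgroupOf M ≃* H := Subgroup.subgroupOfEquivOfLe hHM
    have hcard : Nat.card (H.subgroupOf M) = Nat.card H := Nat.card_congr eqv.toEquiv
    have hle : Nat.card (two (G := M) a b) ≤ Nat.card (two (G := G) a b) :=
      Nat.le_of_dvd Nat.card_pos hdvd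
    rcases hrec with h | ⟨h1, ⟨u, v, h2⟩, h3⟩
    · exact Or.inl (by omega)
    · refine Or.inr ⟨h1.of_equiv eqv, ⟨eqv u, eqv v, fun e => h2 (eqv.injective ?_)⟩, ?_⟩
      · rw [map_mul, map_mul]; exact e
      · rw [← index_commutator_congr eqv]
        exact h3.trans (Nat.add_le_add_right (Nat.mul_le_mul_left _ (Nat.pow_le_pow_left hle 2)) 1)

end Cfsg.Agent.CharTheory.Zassenhaus
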