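import Mathlib
import Cfsg.Agent.Lib.CharTheory.Zassenhaus.Basic
import Cfsg.Agent.Lib.Characters.Frobenius

/-!
Existence of the configuration: Frobenius' theorem applied to a point stabilizer.
-/

set_option autoImplicit false

namespace Cfsg.Agent.CharTheory.Zassenhaus

open Cfsg.Agent.CharactersDeep
open scoped Pointwise

universe u v

variable {G : Type u} {Ω : Type v} [Group G] [MulAction G Ω] [Fintype Ω]

theorem exists_config [Finite G] (hZ : Cfsg.IsZassenhausGroup G Ω) {a b : Ω} (hab : a ≠ b) :
    ∃ H : Subgroup G, Config a b H := by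
  classical
  let N := MulAction.stabilizer G a
  let E : Subgroup N := (MulAction.stabilizer G b).subgroupOf N
  have hmove : ∀ c d : Ω, c ≠ a → d ≠ a → ∃ g : N, (g : G) • c = d := fun c d hc hd => by
    obtain ⟨g, hga, hgc⟩ := Zassenhaus.two_trans hZ hc.symm hd.symm
    exact ⟨⟨g, hga⟩, hgc⟩
  have hFrob : Cfsg.IsFrobeniusComplement E := by
    refine ⟨?_, ?_, ?_⟩
    · obtain ⟨x, hx, hx1⟩ :=
        (Subgroup.bot_or_exists_ne_one _).resolve_left (Zassenhaus.two_point_ne_bot hZ hab)
      intro h0
      have hmem : (⟨x, hx.1⟩ : N) ∈ E := hx.2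
      rw [h0, Subgroup.mem_bot] at hmem
      exact hx1 (congrArg Subtype.val hmem)
    · intro h0
      obtain ⟨c, -, hc⟩ := Finset.exists_mem_notMem_of_card_lt_card
        (s := ({a, b} : Finset Ω)) (t := Finset.univ) (by
          have := Zassenhaus.three_le_card hZ
          rw [Finset.card_pair hab, Finset.card_univ]; omega)
      simp only [Finset.mem_insert, Finset.mem_singleton, not_or] at hc
      obtain ⟨g, hg⟩ := hmove b c hab.symm hc.1
      have hb' : (g : G) • b = b := (h0 ▸ Subgroup.mem_top g : g ∈ E)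
      exact hc.2 (hg.symm.trans hb')
    · intro g hg
      rw [Subgroup.eq_bot_iff_forall]
      rintro y ⟨hy, hy'⟩
      obtain ⟨z, hz, rfl⟩ := hy'
      have hga : (g : G) • a = a := g.2
      have hgb : (g : G) • b ≠ b := hg
      have hyb : ((g : G) * z * (g : G)⁻¹) • b = b := hy
      have hzb : (z : G) • b = b := hz
      have h3 : ((g : G) * z * (g : G)⁻¹) • ((g : G) • b) = (g : G) • b := by
        rw [← mul_smul, inv_mul_cancel_right, mul_smul, hzb]
      refine Subtype.ext (Zassenhaus.eq_one_of_fix_three hZ (a := a) (b := b) (c := (g : G) • b)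
        hab hgb.symm (fun h => hab (smul_left_cancel (g : G) (hga.trans h))) ?_ hyb h3)
      exact (g * z * g⁻¹).2
  obtain ⟨K, hKset, -, hK⟩ := Cfsg.Agent.Characters.frobenius_kernel_theorem hFrob
  refine ⟨K.map N.subtype, hZ, hab, Subgroup.map_subtype_le K, ?_, ?_⟩
  · have h1 : E = MulAction.stabilizer N b := by ext g; exact Iff.rfl
    have h2 : MulAction.orbit N b = ({a}ᶜ : Set Ω) := by
      ext c
      refine ⟨?_, fun hc => ?_⟩
      · rintro ⟨g, rfl⟩ hc
        exact hab (smul_left_cancel (g : G) (g.2.trans hc.symm))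
      · obtain ⟨g, hg⟩ := hmove b c hab.symm hc
        exact ⟨g, hg⟩
    have h3 : Nat.card K = E.index := hK.index_eq_card.symm
    rw [Subgroup.card_map_of_injective N.subtype_injective, h3, h1, MulAction.index_stabilizer, h2,
      Set.ncard_compl, Set.ncard_singleton, Nat.card_eq_fintype_card]
    have := Zassenhaus.three_le_card hZ
    omega
  · rintro _ ⟨u, hu, rfl⟩ hu1 c hc
    by_contra hca
    obtain ⟨g, hg⟩ := hmove b c hab.symm hca
    have hker : u = 1 ∨ ∀ x : N, u ∉ MulAut.conj x • E := by
      have h0 : u ∈ (K : Set N) := hu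
      rw [hKset] at h0
      exact h0
    rcases hker with rfl | h
    · exact hu1 rfl
    · refine h g ⟨g⁻¹ * u * g, ?_, ?_⟩
      · show ((g : G)⁻¹ * (u : G) * (g : G)) • b = b
        rw [mul_smul, mul_smul, hg, inv_smul_eq_iff, hg]
        exact hc
      · show g * (g⁻¹ * u * g) * g⁻¹ = u
        group

end Cfsg.Agent.CharTheory.Zassenhaus
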